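import Mathlib

/-!
# Counting in groups whose non-central centralizers are abelian

`G` a finite group, `Z` a central subgroup, and the centralizer of every `g ∉ Z` is abelian.
Then the sets `cl g` of elements conjugate into `C(g) \ Z` partition `G \ Z`, and
`|cl g| = |G : N(C(g))| (|C(g)| - |Z|)`.
-/

set_option autoImplicit false

namespace Cfsg.Agent.Lib.H4.Dickson

variable {G : Type*} [Group G]

/-- `Z` is central and centralizers of elements outside `Z` are abelian. -/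
structure CAZ (Z : Subgroup G) : Prop where
  central : ∀ z ∈ Z, ∀ g : G, z * g = g * z
  ca : ∀ g : G, g ∉ Z → ∀ x y : G, x * g = g * x → y * g = g * y → x * y = y * x

/-- the centralizer of an element -/
def cent (g : G) : Subgroup G := Subgroup.centralizer ({g} : Set G)

theorem mem_cent {g x : G} : x ∈ cent g ↔ x * g = g * x := by
  unfold cent
  rw [Subgroup.mem_centralizer_singleton_iff]

theorem self_mem_cent (g : G) : g ∈ cent g := mem_cent.2 rfl

theorem conj_mem_cent {g x : G} (k : G) : k * x * k⁻¹ ∈ cent (k * g * k⁻¹) ↔ x ∈ cent g := by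
  rw [mem_cent, mem_cent]
  constructor
  · intro h
    have h2 : k * (x * g) * k⁻¹ = k * (g * x) * k⁻¹ := by
      calc k * (x * g) * k⁻¹ = k * x * k⁻¹ * (k * g * k⁻¹) := by group
        _ = k * g * k⁻¹ * (k * x * k⁻¹) := h
        _ = k * (g * x) * k⁻¹ := by group
    exact mul_left_cancel (mul_right_cancel h2)
  · intro h
    calc k * x * k⁻¹ * (k * g * k⁻¹) = k * (x * g) * k⁻¹ := by group
      _ = k * (g * x) * k⁻¹ := by rw [h]
      _ = k * g * k⁻¹ * (k * x * k⁻¹) := by group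

variable {Z : Subgroup G}

theorem CAZ.conj_eq_self (h : CAZ Z) {w : G} (hw : w ∈ Z) (k : G) : k * w * k⁻¹ = w := by
  have h1 := h.central w hw k⁻¹
  calc k * w * k⁻¹ = k * (w * k⁻¹) := by group
    _ = k * (k⁻¹ * w) := by rw [h1]
    _ = w := by group

theorem CAZ.conj_mem_iff (h : CAZ Z) (k x : G) : k * x * k⁻¹ ∈ Z ↔ x ∈ Z := by
  constructor
  · intro hx
    have h1 := h.conj_eq_self hx k⁻¹
    have e : k⁻¹ * (k * x * k⁻¹) * k⁻¹⁻¹ = x := by group
    rw [e] at h1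
    rw [h1]; exact hx
  · intro hx
    rw [h.conj_eq_self hx k]; exact hx

theorem CAZ.le_cent (h : CAZ Z) (g : G) : Z ≤ cent g := fun z hz => mem_cent.2 (h.central z hz g)

theorem CAZ.cent_eq_of_mem (h : CAZ Z) {g x : G} (hg : g ∉ Z) (hx : x ∉ Z) (hxg : x ∈ cent g) :
    cent x = cent g := by
  have hxg' : x * g = g * x := mem_cent.1 hxg
  ext y
  rw [mem_cent, mem_cent]
  constructor
  · intro hy
    exact h.ca x hx y g hy hxg'.symm
  · intro hy
    exact h.ca g hg y x hy hxg'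

theorem CAZ.comm_of_mem_cent (h : CAZ Z) {g x y : G} (hg : g ∉ Z) (hx : x ∈ cent g)
    (hy : y ∈ cent g) : x * y = y * x :=
  h.ca g hg x y (mem_cent.1 hx) (mem_cent.1 hy)

/-- the elements outside `Z` that are conjugate into `C(g)` -/
def cl (Z : Subgroup G) (g : G) : Set G := {x | x ∉ Z ∧ ∃ k : G, k * x * k⁻¹ ∈ cent g}

theorem mem_cl {g x : G} : x ∈ cl Z g ↔ x ∉ Z ∧ ∃ k : G, k * x * k⁻¹ ∈ cent g := Iff.rfl

theorem self_mem_cl {g : G} (hg : g ∉ Z) : g ∈ cl Z g :=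
  ⟨hg, 1, by simpa using self_mem_cent g⟩

theorem cl_subset_compl (g : G) : cl Z g ⊆ ((Z : Set G))ᶜ := fun _ hx => hx.1

theorem CAZ.conj_mem_cl (h : CAZ Z) {g x : G} (hx : x ∈ cl Z g) (c : G) :
    c * x * c⁻¹ ∈ cl Z g := by
  obtain ⟨hxZ, k, hk⟩ := hx
  refine ⟨fun hc => hxZ ((h.conj_mem_iff c x).1 hc), k * c⁻¹, ?_⟩
  have e : k * c⁻¹ * (c * x * c⁻¹) * (k * c⁻¹)⁻¹ = k * x * k⁻¹ := by group
  rw [e]; exact hk

theorem CAZ.cl_eq_of_mem (h : CAZ Z) {g x : G} (hg : g ∉ Z) (hx : x ∈ cl Z g) :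
    cl Z x = cl Z g := by
  obtain ⟨hxZ, k, hk⟩ := hx
  have hx'Z : k * x * k⁻¹ ∉ Z := fun hc => hxZ ((h.conj_mem_iff k x).1 hc)
  have hcent : cent (k * x * k⁻¹) = cent g := h.cent_eq_of_mem hg hx'Z hk
  ext y
  rw [mem_cl, mem_cl]
  constructor
  · rintro ⟨hyZ, k', hk'⟩
    refine ⟨hyZ, k * k', ?_⟩
    rw [← hcent]
    have e : k * k' * y * (k * k')⁻¹ = k * (k' * y * k'⁻¹) * k⁻¹ := by group
    rw [e]
    exact (conj_mem_cent k).2 hk'
  · rintro ⟨hyZ, k', hk'⟩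
    refine ⟨hyZ, k⁻¹ * k', ?_⟩
    rw [← hcent] at hk'
    have e : k' * y * k'⁻¹ = k * (k⁻¹ * k' * y * (k⁻¹ * k')⁻¹) * k⁻¹ := by group
    rw [e] at hk'
    exact (conj_mem_cent k).1 hk'

theorem CAZ.cl_disjoint (h : CAZ Z) {g x : G} (hg : g ∉ Z) (hx : x ∉ Z) (hne : x ∉ cl Z g) :
    Disjoint (cl Z x) (cl Z g) := by
  rw [Set.disjoint_left]
  intro y hyx hyg
  apply hne
  have h1 := h.cl_eq_of_mem hx hyx
  have h2 := h.cl_eq_of_mem hg hyg
  rw [← h2, h1]
  exact self_mem_cl hx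

/-- Counting the conjugates of `A \ Z` for a subgroup `A` that is TI relative to a central `Z`. -/
theorem ncard_conjRel [Finite G] (A N Z : Subgroup G) (hZA : Z ≤ A)
    (hZ : ∀ k x : G, k * x * k⁻¹ ∈ Z ↔ x ∈ Z)
    (hN : ∀ k ∈ N, ∀ x ∈ A, k * x * k⁻¹ ∈ A)
    (hTI : ∀ k x : G, x ∈ A → x ∉ Z → k * x * k⁻¹ ∈ A → k ∈ N) :
    {g : G | ∃ k x : G, x ∈ A ∧ x ∉ Z ∧ g = k * x * k⁻¹}.ncard =
      N.index * (Nat.card A - Nat.card Z) := by
  classical
  let f : (G ⧸ N) × A → G := fun z => z.1.out * (z.2 : G) * z.1.out⁻¹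
  let S : Set ((G ⧸ N) × A) := Set.univ ×ˢ {x : A | (x : G) ∉ Z}
  have hinj : Set.InjOn f S := by
    rintro ⟨q, x⟩ hz ⟨q', x'⟩ hw h
    simp only [S, Set.mem_prod, Set.mem_univ, true_and, Set.mem_ofPred_eq] at hz hw
    simp only [f] at h
    have h1 : (q'.out⁻¹ * q.out) * (x : G) * (q'.out⁻¹ * q.out)⁻¹ = (x' : G) := by
      have : (x' : G) = q'.out⁻¹ * (q'.out * (x' : G) * q'.out⁻¹) * q'.out := by group
      rw [this, ← h]; group
    have hk : q'.out⁻¹ * q.out ∈ N := hTI _ _ x.2 hz (h1 ▸ x'.2)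
    have hq : q = q' := by
      rw [← QuotientGroup.out_eq' q, ← QuotientGroup.out_eq' q']
      exact (QuotientGroup.eq.mpr hk).symm
    subst hq
    have hx : (x : G) = (x' : G) := by
      have h2 : q.out * (x : G) * q.out⁻¹ = q.out * (x' : G) * q.out⁻¹ := h
      exact mul_left_cancel (mul_right_cancel h2)
    rw [Prod.mk.injEq]
    exact ⟨rfl, Subtype.ext hx⟩
  have himg : f '' S = {g : G | ∃ k x : G, x ∈ A ∧ x ∉ Z ∧ g = k * x * k⁻¹} := by
    ext g
    constructor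
    · rintro ⟨⟨q, x⟩, hz, rfl⟩
      simp only [S, Set.mem_prod, Set.mem_univ, true_and, Set.mem_ofPred_eq] at hz
      exact ⟨q.out, x, x.2, hz, rfl⟩
    · rintro ⟨k, x, hx, hxZ, rfl⟩
      obtain ⟨n, hn⟩ := QuotientGroup.mk_out_eq_mul N k
      have hxn : (n : G)⁻¹ * x * ((n : G)⁻¹)⁻¹ ∈ A := hN _ (N.inv_mem n.2) x hx
      refine ⟨⟨(k : G ⧸ N), ⟨_, hxn⟩⟩, ?_, ?_⟩
      · simp only [S, Set.mem_prod, Set.mem_univ, true_and, Set.mem_ofPred_eq]
        intro h1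
        exact hxZ ((hZ _ _).1 h1)
      · simp only [f]
        rw [hn]
        group
  rw [← himg, hinj.ncard_image, Set.ncard_prod, Set.ncard_univ, ← Subgroup.index_eq_card]
  congr 1
  have h1 : {x : A | (x : G) ∉ Z} = (Set.univ : Set A) \ ((Z.subgroupOf A : Subgroup A) : Set A) := by
    ext x
    simp [Subgroup.mem_subgroupOf]
  rw [h1, Set.ncard_sdiff (Set.subset_univ _), Set.ncard_univ]
  congr 1
  rw [← Nat.card_coe_set_eq]
  exact Nat.card_congr (Subgroup.subgroupOfEquivOfLe hZA).toEquiv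

/-- `|cl g| = |G : N(C(g))| (|C(g)| - |Z|)`. -/
theorem CAZ.ncard_cl [Finite G] (h : CAZ Z) {g : G} (hg : g ∉ Z) :
    (cl Z g).ncard = (Subgroup.normalizer ((cent g : Subgroup G) : Set G)).index *
      (Nat.card (cent g) - Nat.card Z) := by
  rw [← ncard_conjRel (cent g) (Subgroup.normalizer ((cent g : Subgroup G) : Set G)) Z (h.le_cent g)
    h.conj_mem_iff]
  · congr 1
    ext x
    rw [mem_cl, Set.mem_ofPred_eq]
    constructor
    · rintro ⟨hxZ, k, hk⟩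
      refine ⟨k⁻¹, k * x * k⁻¹, hk, fun hc => hxZ ((h.conj_mem_iff k x).1 hc), by group⟩
    · rintro ⟨k, x', hx', hx'Z, rfl⟩
      refine ⟨fun hc => hx'Z ((h.conj_mem_iff k x').1 hc), k⁻¹, ?_⟩
      have e : k⁻¹ * (k * x' * k⁻¹) * k⁻¹⁻¹ = x' := by group
      rw [e]; exact hx'
  · intro k hk x hx
    exact (Subgroup.mem_normalizer_iff.1 hk x).1 hx
  · intro k x hx hxZ hkx
    have hx'Z : k * x * k⁻¹ ∉ Z := fun hc => hxZ ((h.conj_mem_iff k x).1 hc)
    have h1 : cent x = cent g := h.cent_eq_of_mem hg hxZ hx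
    have h2 : cent (k * x * k⁻¹) = cent g := h.cent_eq_of_mem hg hx'Z hkx
    rw [Subgroup.mem_normalizer_iff]
    intro y
    rw [← h1]
    conv_rhs => rw [h1, ← h2]
    exact (conj_mem_cent k).symm

end Cfsg.Agent.Lib.H4.Dickson
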