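import Mathlib
import Cfsg.Agent.Lib.H4.Dickson.CACount

/-!
# The class equation for `SL₂`-like groups with a TI Sylow subgroup

Abstract numeric core of Dickson's analysis: for a finite group with abelian non-central
centralizers, a "unipotent" class `cl y` and all other classes of "torus type" (normalizer of the
centralizer of index at most two), the number `n` of conjugates of `C(y)` is `1 + q`, or
`q = 3`, `d = 2`, `n = 10`.
-/

set_option autoImplicit false

namespace Cfsg.Agent.Lib.H4.Dickson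

/-- final Diophantine step -/
theorem dioph_final {N q d c : ℕ} (hN : 1 ≤ N) (hq : 3 ≤ q) (hd2 : 2 ≤ d) (hdq : d ≤ q - 1)
    (hc : 1 ≤ c) (h : c * (1 + N * (q - 2)) = 2 * N * d) :
    N = 1 ∨ (N = 3 ∧ q = 3 ∧ d = 2) := by
  obtain ⟨q', rfl⟩ : ∃ q', q = q' + 3 := ⟨q - 3, by omega⟩
  have hdq' : d ≤ q' + 2 := by omega
  have e1 : q' + 3 - 2 = q' + 1 := by omega
  rw [e1] at h
  by_contra hcon
  push Not at hcon
  obtain ⟨hN1, hN3⟩ := hcon
  have hN2 : 2 ≤ N := by omega
  have hNc : N ∣ c := by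
    have h1 : N ∣ c * (1 + N * (q' + 1)) := by rw [h]; exact ⟨2 * d, by ring⟩
    have h2 : c * (1 + N * (q' + 1)) = c + N * (c * (q' + 1)) := by ring
    rw [h2] at h1
    exact (Nat.dvd_add_iff_left ⟨c * (q' + 1), rfl⟩).2 h1
  obtain ⟨c', rfl⟩ := hNc
  have hc' : 1 ≤ c' := by
    rcases Nat.eq_zero_or_pos c' with h0 | h0
    · rw [h0] at hc; omega
    · exact h0
  have h3 : c' * (1 + N * (q' + 1)) = 2 * d := by
    have : N * (c' * (1 + N * (q' + 1))) = N * (2 * d) := by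
      calc N * (c' * (1 + N * (q' + 1))) = N * c' * (1 + N * (q' + 1)) := by ring
        _ = 2 * N * d := h
        _ = N * (2 * d) := by ring
    exact Nat.eq_of_mul_eq_mul_left (by omega) this
  have hNq : 2 * (q' + 1) ≤ N * (q' + 1) := Nat.mul_le_mul_right _ hN2
  have hc1 : c' = 1 := by
    by_contra hne
    have h2 : 2 ≤ c' := by omega
    have := Nat.mul_le_mul h2 (show 1 + 2 * (q' + 1) ≤ 1 + N * (q' + 1) by omega)
    omega
  rw [hc1, one_mul] at h3
  have hN3' : N ≤ 3 := by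
    by_contra hne
    have h4 : 4 ≤ N := by omega
    have := Nat.mul_le_mul_right (q' + 1) h4
    omega
  interval_cases N
  · omega
  · have hq0 : q' = 0 := by
      by_contra hne
      have : 1 ≤ q' := by omega
      omega
    subst hq0
    apply hN3 rfl rfl
    omega

variable {G : Type*} [Group G] [Finite G]

/-- The data of the counting argument. -/
structure Setup (Z : Subgroup G) (y : G) (q r : ℕ) (tor : G → Prop) : Prop where
  caz : CAZ Z
  hy : y ∉ Z
  hq : 3 ≤ q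
  hqodd : Odd q
  card_cent_y : Nat.card (cent y) = Nat.card Z * q
  card_S : Nat.card (Subgroup.normalizer ((cent y : Subgroup G) : Set G)) = q * r
  z_dvd_r : Nat.card Z ∣ r
  r_le : r ≤ Nat.card Z * (q - 1)
  S_ne_top : Subgroup.normalizer ((cent y : Subgroup G) : Set G) ≠ ⊤
  tor_or : ∀ x, x ∉ Z → x ∈ cl Z y ∨ tor x
  tor_not : ∀ x, tor x → x ∉ Z ∧ x ∉ cl Z y
  tor_norm : ∀ x, tor x → ∃ e : ℕ, (e = 1 ∨ e = 2) ∧
    Nat.card (Subgroup.normalizer ((cent x : Subgroup G) : Set G)) = e * Nat.card (cent x)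
  tor_cop : ∀ x, tor x → Nat.Coprime (Nat.card (cent x)) q
  exists_T : Nat.card Z < r → ∃ n₀, tor n₀ ∧ Nat.card (cent n₀) = r

/-- a union of classes -/
def Good (Z : Subgroup G) (R : Set G) : Prop := R ⊆ ((Z : Set G))ᶜ ∧ ∀ x ∈ R, cl Z x ⊆ R

omit [Finite G] in
theorem good_compl {Z : Subgroup G} : Good Z ((Z : Set G))ᶜ :=
  ⟨le_rfl, fun x _ => cl_subset_compl x⟩

theorem CAZ.good_diff {Z : Subgroup G} (h : CAZ Z) {R : Set G} (hR : Good Z R) {x₀ : G}
    (hx₀ : x₀ ∈ R) : Good Z (R \ cl Z x₀) ∧ (R \ cl Z x₀).ncard + (cl Z x₀).ncard = R.ncard := by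
  have hx₀Z : x₀ ∉ Z := hR.1 hx₀
  refine ⟨⟨fun x hx => hR.1 hx.1, ?_⟩, ?_⟩
  · intro x hx
    have hxZ : x ∉ Z := hR.1 hx.1
    intro w hw
    refine ⟨hR.2 x hx.1 hw, ?_⟩
    have := h.cl_disjoint hx₀Z hxZ hx.2
    exact Set.disjoint_left.1 this hw
  · exact Set.ncard_sdiff_add_ncard_of_subset (hR.2 x₀ hx₀)

variable {Z : Subgroup G} {y : G} {q r : ℕ} {tor : G → Prop}

/-- arithmetic: a torus class has at least a quarter of the elements -/
theorem four_mul_ge {C e f M : ℕ} (he : e = 1 ∨ e = 2) (hf : 2 ≤ f)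
    (h : C * (e * f) = M * (f - 1)) : M ≤ 4 * C := by
  obtain ⟨f', rfl⟩ : ∃ f', f = f' + 2 := ⟨f - 2, by omega⟩
  have e1 : f' + 2 - 1 = f' + 1 := by omega
  rw [e1] at h
  have h1 : M * (f' + 2) ≤ 2 * (M * (f' + 1)) := by nlinarith
  rw [← h] at h1
  have h2 : M * (f' + 2) ≤ (4 * C) * (f' + 2) := by
    rcases he with rfl | rfl
    · nlinarith
    · nlinarith
  exact Nat.le_of_mul_le_mul_right h2 (by omega)

theorem Setup.card_Z_pos (_h : Setup Z y q r tor) : 0 < Nat.card Z := Nat.card_pos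

theorem Setup.cl_tor (h : Setup Z y q r tor) {x : G} (hx : tor x) {d : ℕ}
    (hr : r = Nat.card Z * d) :
    ∃ e f : ℕ, (e = 1 ∨ e = 2) ∧ 2 ≤ f ∧ Nat.card (cent x) = Nat.card Z * f ∧ f.Coprime q ∧
      (cl Z x).ncard * (e * f) =
        (Subgroup.normalizer ((cent y : Subgroup G) : Set G)).index * q * d * Nat.card Z *
          (f - 1) := by
  have hz : 0 < Nat.card Z := Nat.card_pos
  obtain ⟨hxZ, _⟩ := h.tor_not x hx
  obtain ⟨e, he, hN⟩ := h.tor_norm x hx
  have hle : Z ≤ cent x := h.caz.le_cent x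
  obtain ⟨f, hf⟩ := Subgroup.card_dvd_of_le hle
  have hcpos : 0 < Nat.card (cent x) := Nat.card_pos
  have hf2 : 2 ≤ f := by
    by_contra hlt
    have hf1 : f = 1 := by
      rcases Nat.eq_zero_or_pos f with h0 | h0
      · rw [h0, mul_zero] at hf; omega
      · omega
    rw [hf1, mul_one] at hf
    have : Z = cent x := Subgroup.eq_of_le_of_card_ge hle (le_of_eq hf)
    apply hxZ
    rw [this]
    exact self_mem_cent x
  refine ⟨e, f, he, hf2, hf, ?_, ?_⟩
  · have := h.tor_cop x hx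
    rw [hf] at this
    exact Nat.Coprime.coprime_mul_left this
  · have h1 := h.caz.ncard_cl hxZ
    have h2 := Subgroup.index_mul_card (Subgroup.normalizer ((cent x : Subgroup G) : Set G))
    have h3 := Subgroup.index_mul_card (Subgroup.normalizer ((cent y : Subgroup G) : Set G))
    rw [h.card_S, hr] at h3
    rw [hN, hf] at h2
    rw [hf] at h1
    have h4 : Nat.card Z * f - Nat.card Z = Nat.card Z * (f - 1) := by
      rw [Nat.mul_sub, mul_one]
    rw [h4] at h1
    apply Nat.eq_of_mul_eq_mul_right hz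
    rw [h1]
    calc (Subgroup.normalizer ((cent x : Subgroup G) : Set G)).index * (Nat.card Z * (f - 1)) *
          (e * f) * Nat.card Z
        = ((Subgroup.normalizer ((cent x : Subgroup G) : Set G)).index *
            (e * (Nat.card Z * f))) * (Nat.card Z * (f - 1)) := by ring
      _ = Nat.card G * (Nat.card Z * (f - 1)) := by rw [h2]
      _ = (Subgroup.normalizer ((cent y : Subgroup G) : Set G)).index *
            (q * (Nat.card Z * d)) * (Nat.card Z * (f - 1)) := by rw [h3]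
      _ = _ := by ring

/-- arithmetic for the case `d = 1` -/
theorem arith_d1 {n z q C e f R1 : ℕ} (hz : 0 < z) (hn : 2 ≤ n) (hq : 3 ≤ q)
    (he : e = 1 ∨ e = 2) (hf : 2 ≤ f)
    (hR1 : R1 + z = n * z) (hC : C * (e * f) = n * q * 1 * z * (f - 1)) (hle : C ≤ R1) :
    q = 3 ∧ e = 2 ∧ f = 2 := by
  obtain ⟨f', rfl⟩ : ∃ f', f = f' + 2 := ⟨f - 2, by omega⟩
  have e1 : f' + 2 - 1 = f' + 1 := by omega
  rw [e1] at hC
  have hR1lt : R1 < n * z := by omega
  have hefpos : 0 < e * (f' + 2) := by rcases he with rfl | rfl <;> omega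
  have h1 : n * z * (q * (f' + 1)) < n * z * (e * (f' + 2)) := by
    calc n * z * (q * (f' + 1)) = C * (e * (f' + 2)) := by rw [hC]; ring
      _ ≤ R1 * (e * (f' + 2)) := Nat.mul_le_mul_right _ hle
      _ < n * z * (e * (f' + 2)) := Nat.mul_lt_mul_of_pos_right hR1lt hefpos
  have h2 : q * (f' + 1) < e * (f' + 2) := Nat.lt_of_mul_lt_mul_left h1
  have h3 : 3 * (f' + 1) ≤ q * (f' + 1) := Nat.mul_le_mul_right _ hq
  have h4 : e * (f' + 2) ≤ 2 * (f' + 2) := by rcases he with rfl | rfl <;> omega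
  have hf0 : f' = 0 := by omega
  subst hf0
  rcases he with rfl | rfl <;> omega

/-- arithmetic: with `e₀ = 1` for the split torus, no further class fits -/
theorem arith_e1 {n z q d C e f R2 : ℕ} (hz : 0 < z) (hn : 2 ≤ n) (hq : 3 ≤ q) (hd : 2 ≤ d)
    (he : e = 1 ∨ e = 2) (hf : 2 ≤ f)
    (hR2 : R2 + z = n * z) (hC : C * (e * f) = n * q * d * z * (f - 1)) (hle : C ≤ R2) : False := by
  obtain ⟨f', rfl⟩ : ∃ f', f = f' + 2 := ⟨f - 2, by omega⟩
  have e1 : f' + 2 - 1 = f' + 1 := by omega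
  rw [e1] at hC
  have hR2lt : R2 < n * z := by omega
  have hefpos : 0 < e * (f' + 2) := by rcases he with rfl | rfl <;> omega
  have h1 : n * z * (q * d * (f' + 1)) < n * z * (e * (f' + 2)) := by
    calc n * z * (q * d * (f' + 1)) = C * (e * (f' + 2)) := by rw [hC]; ring
      _ ≤ R2 * (e * (f' + 2)) := Nat.mul_le_mul_right _ hle
      _ < n * z * (e * (f' + 2)) := Nat.mul_lt_mul_of_pos_right hR2lt hefpos
  have h2 : q * d * (f' + 1) < e * (f' + 2) := Nat.lt_of_mul_lt_mul_left h1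
  have h3 : 6 ≤ q * d := by nlinarith
  have h3' : 6 * (f' + 1) ≤ q * d * (f' + 1) := Nat.mul_le_mul_right _ h3
  have h4 : e * (f' + 2) ≤ 2 * (f' + 2) := by rcases he with rfl | rfl <;> omega
  omega

/-- arithmetic: with `e₀ = 2`, a further class with `e = 1` does not fit -/
theorem arith_e2_e1 {m z q d C f R2 : ℕ} (hm : 0 < m) (hq : 3 ≤ q) (hf : 2 ≤ f)
    (hA3 : 2 * R2 + 2 * z + m * q = m * q * d + 2 * m)
    (hC : C * (1 * f) = m * q * d * (f - 1)) (hle : C ≤ R2) : False := by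
  obtain ⟨f', rfl⟩ : ∃ f', f = f' + 2 := ⟨f - 2, by omega⟩
  have e1 : f' + 2 - 1 = f' + 1 := by omega
  rw [e1, one_mul] at hC
  have h1 : 2 * (C * (f' + 2)) ≤ (f' + 2) * (2 * R2) := by nlinarith
  have h2 : (f' + 2) * (2 * R2) + (f' + 2) * (m * q) ≤ (f' + 2) * (m * q * d) + (f' + 2) * (2 * m) := by
    have : 2 * R2 + m * q ≤ m * q * d + 2 * m := by omega
    calc (f' + 2) * (2 * R2) + (f' + 2) * (m * q) = (f' + 2) * (2 * R2 + m * q) := by ring
      _ ≤ (f' + 2) * (m * q * d + 2 * m) := Nat.mul_le_mul_left _ this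
      _ = _ := by ring
  have h3 : 3 * m ≤ m * q := by nlinarith
  have h4 : f' * (3 * m) ≤ f' * (m * q) := Nat.mul_le_mul_left _ h3
  rw [hC] at h1
  nlinarith

/-- arithmetic: with `e₀ = 2` and a further class with `e = 2`, the remainder -/
theorem arith_e2_e2 {m z q d C f R2 R3 : ℕ} (hf : 2 ≤ f)
    (hA3 : 2 * R2 + 2 * z + m * q = m * q * d + 2 * m)
    (hC : C * (2 * f) = m * q * d * (f - 1)) (hR3 : R3 + C = R2) :
    2 * f * R3 + 2 * f * z + f * (m * q) = m * q * d + 2 * f * m := by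
  obtain ⟨f', rfl⟩ : ∃ f', f = f' + 2 := ⟨f - 2, by omega⟩
  have e1 : f' + 2 - 1 = f' + 1 := by omega
  rw [e1] at hC
  have h1 : (f' + 2) * (2 * R2 + 2 * z + m * q) = (f' + 2) * (m * q * d + 2 * m) := by rw [hA3]
  subst hR3
  nlinarith

theorem arith_e2_e2_no_more {m z q d f R3 C4 : ℕ} (hm : 0 < m) (hq : 3 ≤ q) (hf : 2 ≤ f)
    (hA4 : 2 * f * R3 + 2 * f * z + f * (m * q) = m * q * d + 2 * f * m)
    (h4 : m * q * d ≤ 4 * C4) (hle : C4 ≤ R3) : False := by
  have h1 : m * q * d ≤ 4 * R3 := by omega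
  have h2 : f * (m * q * d) ≤ f * (4 * R3) := Nat.mul_le_mul_left _ h1
  have h3 : 2 * (m * q * d) ≤ f * (m * q * d) := Nat.mul_le_mul_right _ hf
  have h5 : 3 * m ≤ m * q := by nlinarith
  have h6 : f * (3 * m) ≤ f * (m * q) := Nat.mul_le_mul_left _ h5
  have h7 : 0 < f * m := Nat.mul_pos (by omega) hm
  nlinarith

/-- arithmetic: the end of the analysis -/
theorem arith_final {n q d f : ℕ} (hn : 2 ≤ n) (hq : 3 ≤ q) (hqodd : Odd q) (hd2 : 2 ≤ d)
    (hdq : d ≤ q - 1) (hcop : f.Coprime q)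
    (h : n * q * d + 2 * f * n = f * (n * q) + 2 * f) :
    n = 1 + q ∨ (q = 3 ∧ d = 2 ∧ n = 10) := by
  -- `q ∣ n - 1`
  have hmod : 2 * f * n ≡ 2 * f [MOD q] := by
    have h1 : n * q * d + 2 * f * n ≡ 2 * f * n [MOD q] := by
      have : n * q * d ≡ 0 [MOD q] := (Nat.modEq_zero_iff_dvd).2 ⟨n * d, by ring⟩
      simpa using this.add_right (2 * f * n)
    have h2 : f * (n * q) + 2 * f ≡ 2 * f [MOD q] := by
      have : f * (n * q) ≡ 0 [MOD q] := (Nat.modEq_zero_iff_dvd).2 ⟨f * n, by ring⟩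
      simpa using this.add_right (2 * f)
    exact (h1.symm.trans (h ▸ Nat.ModEq.refl _)).trans h2
  have hle : 2 * f ≤ 2 * f * n := Nat.le_mul_of_pos_right _ (by omega)
  have hdvd : q ∣ 2 * f * n - 2 * f := (Nat.modEq_iff_dvd' hle).1 hmod.symm
  have e1 : 2 * f * n - 2 * f = (n - 1) * (2 * f) := by
    obtain ⟨n', rfl⟩ : ∃ n', n = n' + 1 := ⟨n - 1, by omega⟩
    rw [Nat.add_sub_cancel, mul_add, mul_one, Nat.add_sub_cancel]; ring
  rw [e1] at hdvd
  have hc2 : Nat.Coprime q (2 * f) :=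
    Nat.Coprime.mul_right (Nat.coprime_two_left.2 hqodd).symm hcop.symm
  have hq1 : q ∣ n - 1 := hc2.dvd_of_dvd_mul_right hdvd
  obtain ⟨N, hN⟩ := hq1
  have hnN : n = 1 + N * q := by rw [mul_comm N q]; omega
  have hN1 : 1 ≤ N := by
    rcases Nat.eq_zero_or_pos N with h0 | h0
    · rw [h0] at hnN; omega
    · exact h0
  subst hnN
  -- divide by `q`
  have hqpos : 0 < q := by omega
  have h2 : (1 + N * q) * d + 2 * f * N = f * (1 + N * q) := by
    apply Nat.eq_of_mul_eq_mul_left hqpos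
    nlinarith
  obtain ⟨q', rfl⟩ : ∃ q', q = q' + 2 := ⟨q - 2, by omega⟩
  have e2 : q' + 2 - 2 = q' := by omega
  -- `f > d`
  have hfd : d < f := by
    by_contra hle'
    push Not at hle'
    have : f * (1 + N * (q' + 2)) ≤ d * (1 + N * (q' + 2)) := Nat.mul_le_mul_right _ hle'
    have hf0 : f ≠ 0 := by
      rintro rfl
      rw [Nat.coprime_zero_left] at hcop
      omega
    have hpos : 0 < f * N := Nat.mul_pos (Nat.pos_of_ne_zero hf0) hN1
    nlinarith
  obtain ⟨c, rfl⟩ : ∃ c, f = d + c := ⟨f - d, by omega⟩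
  have hc1 : 1 ≤ c := by omega
  have h3 : c * (1 + N * (q' + 2 - 2)) = 2 * N * d := by
    rw [e2]
    nlinarith
  rcases dioph_final hN1 hq hd2 hdq hc1 h3 with hN | ⟨hN, hq3, hd⟩
  · left; subst hN; ring
  · right
    subst hN
    have : q' = 1 := by omega
    subst this
    exact ⟨rfl, hd, rfl⟩

set_option maxHeartbeats 1000000 in
/-- **The class equation analysis.** -/
theorem Setup.main (h : Setup Z y q r tor) :
    (Subgroup.normalizer ((cent y : Subgroup G) : Set G)).index = 1 + q ∨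
      (q = 3 ∧ r = 2 * Nat.card Z ∧
        (Subgroup.normalizer ((cent y : Subgroup G) : Set G)).index = 10) := by
  classical
  obtain ⟨z, hzdef⟩ : ∃ z, z = Nat.card Z := ⟨_, rfl⟩
  have hz : 0 < z := by rw [hzdef]; exact Nat.card_pos
  obtain ⟨n, hndef⟩ : ∃ n, n = (Subgroup.normalizer ((cent y : Subgroup G) : Set G)).index :=
    ⟨_, rfl⟩
  obtain ⟨d, hd⟩ := h.z_dvd_r
  rw [← hndef]
  rw [← hzdef] at hd ⊢
  have hn2 : 2 ≤ n := by
    have h0 : n ≠ 0 := by rw [hndef]; exact Subgroup.index_ne_zero_of_finite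
    have h1 : n ≠ 1 := by
      rw [hndef]; intro h1; exact h.S_ne_top (Subgroup.index_eq_one.1 h1)
    omega
  have hG : Nat.card G = n * (q * (z * d)) := by
    rw [hndef, ← hd, ← h.card_S]; exact (Subgroup.index_mul_card _).symm
  have hq := h.hq
  have hd1 : 1 ≤ d := by
    rcases Nat.eq_zero_or_pos d with h0 | h0
    · exfalso
      rw [h0, mul_zero, mul_zero, mul_zero] at hG
      exact (Nat.card_pos (α := G)).ne' hG
    · exact h0
  have hdq : d ≤ q - 1 := by
    have := h.r_le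
    rw [hd, ← hzdef] at this
    exact Nat.le_of_mul_le_mul_left this hz
  -- the complement of `Z`
  have hU : ((Z : Set G)ᶜ).ncard + z = Nat.card G := by
    have h1 := Set.ncard_add_ncard_compl (Z : Set G)
    have h2 : (Z : Set G).ncard = z := by
      rw [hzdef, ← Nat.card_coe_set_eq]; rfl
    rw [h2] at h1
    omega
  -- the unipotent class
  have hy1 : y ∈ ((Z : Set G))ᶜ := h.hy
  obtain ⟨hR1, hR1c⟩ := h.caz.good_diff good_compl hy1
  have hCy : (cl Z y).ncard = n * (z * (q - 1)) := by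
    rw [h.caz.ncard_cl h.hy, h.card_cent_y, ← hndef, ← hzdef]
    congr 1
    rw [Nat.mul_sub, mul_one]
  obtain ⟨R1, hR1def⟩ : ∃ R1, R1 = ((Z : Set G))ᶜ \ cl Z y := ⟨_, rfl⟩
  rw [← hR1def] at hR1 hR1c
  have htorR1 : ∀ x ∈ R1, tor x := by
    intro x hx
    rw [hR1def] at hx
    rcases h.tor_or x hx.1 with h1 | h1
    · exact absurd h1 hx.2
    · exact h1
  -- data for the classes
  have hcl : ∀ x, tor x → ∃ e f : ℕ, (e = 1 ∨ e = 2) ∧ 2 ≤ f ∧ Nat.card (cent x) = z * f ∧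
      f.Coprime q ∧ (cl Z x).ncard * (e * f) = n * q * d * z * (f - 1) := by
    intro x hx
    have := h.cl_tor hx (d := d) (by rw [← hzdef]; exact hd)
    rw [← hndef, ← hzdef] at this
    exact this
  have hquarter : ∀ x, tor x → n * q * d * z ≤ 4 * (cl Z x).ncard := by
    intro x hx
    obtain ⟨e, f, he, hf, -, -, hC⟩ := hcl x hx
    exact four_mul_ge he hf hC
  -- peeling step
  have hstep : ∀ R : Set G, Good Z R → R ⊆ R1 → ∀ x ∈ R,
      (cl Z x).ncard ≤ R.ncard ∧ Good Z (R \ cl Z x) ∧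
        (R \ cl Z x).ncard + (cl Z x).ncard = R.ncard ∧ R \ cl Z x ⊆ R1 := by
    intro R hR hRR1 x hx
    obtain ⟨h1, h2⟩ := h.caz.good_diff hR hx
    exact ⟨by omega, h1, h2, fun w hw => hRR1 hw.1⟩
  -- `|R1| + n z (q-1) + z = n q z d`
  have hR1card : R1.ncard + n * (z * (q - 1)) + z = n * (q * (z * d)) := by
    rw [← hG, ← hU, ← hR1c, hCy]
  obtain ⟨q', rfl⟩ : ∃ q', q = q' + 3 := ⟨q - 3, by omega⟩
  have eq1 : q' + 3 - 1 = q' + 2 := by omega
  rw [eq1] at hR1card
  rcases Nat.lt_or_ge 1 d with hd2 | hd1'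
  · -- `d ≥ 2`
    have hrz : Nat.card Z < r := by
      rw [hd, ← hzdef]; nlinarith
    obtain ⟨n₀, hn₀tor, hn₀card⟩ := h.exists_T hrz
    obtain ⟨hn₀Z, hn₀y⟩ := h.tor_not n₀ hn₀tor
    have hn₀R1 : n₀ ∈ R1 := by rw [hR1def]; exact ⟨hn₀Z, hn₀y⟩
    obtain ⟨e₀, f₀, he₀, hf₀, hc₀, -, hC₀⟩ := hcl n₀ hn₀tor
    have hf₀d : f₀ = d := by
      rw [hn₀card, hd] at hc₀
      exact (Nat.eq_of_mul_eq_mul_left hz hc₀).symm
    subst hf₀d
    obtain ⟨hle0, hR2, hR2c, hR2sub⟩ := hstep R1 hR1 le_rfl n₀ hn₀R1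
    obtain ⟨R2, hR2def⟩ : ∃ R2, R2 = R1 \ cl Z n₀ := ⟨_, rfl⟩
    rw [← hR2def] at hR2 hR2c hR2sub
    -- `C₀ e₀ = n q z (d - 1)`
    have hC₀' : (cl Z n₀).ncard * e₀ = n * (q' + 3) * z * (f₀ - 1) := by
      have : (cl Z n₀).ncard * e₀ * f₀ = n * (q' + 3) * z * (f₀ - 1) * f₀ := by
        rw [mul_assoc, hC₀]; ring
      exact Nat.eq_of_mul_eq_mul_right (by omega) this
    obtain ⟨d', rfl⟩ : ∃ d', f₀ = d' + 2 := ⟨f₀ - 2, by omega⟩
    have ed1 : d' + 2 - 1 = d' + 1 := by omega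
    rw [ed1] at hC₀'
    rcases he₀ with rfl | rfl
    · -- `e₀ = 1` is impossible
      exfalso
      rw [mul_one] at hC₀'
      have hR2z : R2.ncard + z = n * z := by
        have e1 : (R1.ncard : ℤ) + n * (z * (q' + 2)) + z = n * ((q' + 3) * (z * (d' + 2))) := by
          exact_mod_cast hR1card
        have e2 : (R2.ncard : ℤ) + (cl Z n₀).ncard = R1.ncard := by exact_mod_cast hR2c
        have e3 : ((cl Z n₀).ncard : ℤ) = n * (q' + 3) * z * (d' + 1) := by exact_mod_cast hC₀'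
        have : (R2.ncard + z : ℤ) = n * z := by linear_combination e1 + e2 - e3
        exact_mod_cast this
      have hR2ne : R2.Nonempty := by
        apply Set.nonempty_of_ncard_ne_zero
        have : z < n * z := by nlinarith
        omega
      obtain ⟨x₃, hx₃⟩ := hR2ne
      have hx₃tor := htorR1 x₃ (hR2sub hx₃)
      obtain ⟨e, f, he, hf, -, -, hC⟩ := hcl x₃ hx₃tor
      obtain ⟨hle3, -, -, -⟩ := hstep R2 hR2 hR2sub x₃ hx₃
      exact arith_e1 hz hn2 (by omega) (by omega) he hf hR2z hC hle3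
    · -- `e₀ = 2`
      have hA3 : 2 * R2.ncard + 2 * z + (n * z) * (q' + 3) =
          (n * z) * (q' + 3) * (d' + 2) + 2 * (n * z) := by
        have e1 : (R1.ncard : ℤ) + n * (z * (q' + 2)) + z = n * ((q' + 3) * (z * (d' + 2))) := by
          exact_mod_cast hR1card
        have e2 : (R2.ncard : ℤ) + (cl Z n₀).ncard = R1.ncard := by exact_mod_cast hR2c
        have e3 : ((cl Z n₀).ncard : ℤ) * 2 = n * (q' + 3) * z * (d' + 1) := by
          exact_mod_cast hC₀'
        have : (2 * R2.ncard + 2 * z + (n * z) * (q' + 3) : ℤ) =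
            (n * z) * (q' + 3) * (d' + 2) + 2 * (n * z) := by
          linear_combination 2 * e1 + 2 * e2 - e3
        exact_mod_cast this
      have hR2ne : R2.Nonempty := by
        apply Set.nonempty_of_ncard_ne_zero
        have h1 : z < n * z := by nlinarith
        have h2 : (n * z) * (q' + 3) ≤ (n * z) * (q' + 3) * (d' + 2) :=
          Nat.le_mul_of_pos_right _ (by omega)
        omega
      obtain ⟨x₃, hx₃⟩ := hR2ne
      have hx₃tor := htorR1 x₃ (hR2sub hx₃)
      obtain ⟨e, f, he, hf, -, hcop, hC⟩ := hcl x₃ hx₃tor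
      obtain ⟨hle3, hR3, hR3c, hR3sub⟩ := hstep R2 hR2 hR2sub x₃ hx₃
      have hm : 0 < n * z := Nat.mul_pos (by omega) hz
      have hC' : (cl Z x₃).ncard * (e * f) = (n * z) * (q' + 3) * (d' + 2) * (f - 1) := by
        rw [hC]; ring
      rcases he with rfl | rfl
      · exact absurd (arith_e2_e1 hm (by omega) hf hA3 hC' hle3) id
      · have hA4 := arith_e2_e2 hf hA3 hC' hR3c
        have hR3empty : (R2 \ cl Z x₃) = ∅ := by
          by_contra hne
          obtain ⟨x₄, hx₄⟩ := Set.nonempty_iff_ne_empty.2 hne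
          have hx₄tor := htorR1 x₄ (hR3sub hx₄)
          obtain ⟨hle4, -, -, -⟩ := hstep _ hR3 hR3sub x₄ hx₄
          have hq4 := hquarter x₄ hx₄tor
          have hq4' : (n * z) * (q' + 3) * (d' + 2) ≤ 4 * (cl Z x₄).ncard := by
            calc (n * z) * (q' + 3) * (d' + 2) = n * (q' + 3) * (d' + 2) * z := by ring
              _ ≤ _ := hq4
          exact arith_e2_e2_no_more hm (by omega) hf hA4 hq4' hle4
        rw [hR3empty, Set.ncard_empty, mul_zero, zero_add] at hA4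
        -- cancel `z`
        have hfin : n * (q' + 3) * (d' + 2) + 2 * f * n = f * (n * (q' + 3)) + 2 * f := by
          apply Nat.eq_of_mul_eq_mul_left hz
          have e4 : (2 * f * z + f * ((n * z) * (q' + 3)) : ℤ) =
              (n * z) * (q' + 3) * (d' + 2) + 2 * f * (n * z) := by exact_mod_cast hA4
          have : (z * (n * (q' + 3) * (d' + 2) + 2 * f * n) : ℤ) =
              z * (f * (n * (q' + 3)) + 2 * f) := by linear_combination (-1 : ℤ) * e4
          exact_mod_cast this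
        rcases arith_final hn2 (by omega) h.hqodd (by omega) hdq hcop hfin with h1 | ⟨h1, h2, h3⟩
        · left; exact h1
        · right
          refine ⟨h1, ?_, h3⟩
          rw [hd, h2]; ring
  · -- `d = 1`
    have hd' : d = 1 := by omega
    subst hd'
    left
    have hR1z : R1.ncard + z = n * z := by
      have e1 : (R1.ncard : ℤ) + n * (z * (q' + 2)) + z = n * ((q' + 3) * (z * 1)) := by
        exact_mod_cast hR1card
      have : (R1.ncard + z : ℤ) = n * z := by linear_combination e1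
      exact_mod_cast this
    have hR1ne : R1.Nonempty := by
      apply Set.nonempty_of_ncard_ne_zero
      have : z < n * z := by nlinarith
      omega
    obtain ⟨x₃, hx₃⟩ := hR1ne
    have hx₃tor := htorR1 x₃ hx₃
    obtain ⟨e, f, he, hf, -, -, hC⟩ := hcl x₃ hx₃tor
    obtain ⟨hle3, hR3, hR3c, hR3sub⟩ := hstep R1 hR1 le_rfl x₃ hx₃
    obtain ⟨hq3, he2, hf2⟩ := arith_d1 hz hn2 (by omega) he hf hR1z hC hle3
    subst he2 hf2
    have hq0 : q' = 0 := by omega
    subst hq0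
    have hC4 : (cl Z x₃).ncard * 4 = 3 * (n * z) := by
      rw [show (4 : ℕ) = 2 * 2 by norm_num, hC]; ring
    have hR3empty : (R1 \ cl Z x₃) = ∅ := by
      by_contra hne
      obtain ⟨x₄, hx₄⟩ := Set.nonempty_iff_ne_empty.2 hne
      have hx₄tor := htorR1 x₄ (hR3sub hx₄)
      obtain ⟨hle4, -, -, -⟩ := hstep _ hR3 hR3sub x₄ hx₄
      have hq4 := hquarter x₄ hx₄tor
      have hq4' : 3 * (n * z) ≤ 4 * (cl Z x₄).ncard := by
        calc 3 * (n * z) = n * (0 + 3) * 1 * z := by ring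
          _ ≤ _ := hq4
      omega
    rw [hR3empty, Set.ncard_empty, zero_add] at hR3c
    have : n * z = 4 * z := by omega
    have hn4 : n = 4 := Nat.eq_of_mul_eq_mul_right hz this
    omega

end Cfsg.Agent.Lib.H4.Dickson
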