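import Mathlib
import Cfsg.Agent.Lib.H12.SL2Reg
import Cfsg.Agent.Lib.H12.SL2Syl2
import Cfsg.Agent.Lib.H8.SL2Odd

/-!
# Elementary matrices in `SL₂(K)` and the upper triangular subgroup
-/

set_option autoImplicit false

namespace Cfsg.Agent.Lib.H4.Dickson

open Matrix Cfsg.Agent.Lib.H12

variable {K : Type*} [Field K]

local notation "SL2" => Matrix.SpecialLinearGroup (Fin 2) K
local notation "M2" => Matrix (Fin 2) (Fin 2) K

/-- upper unitriangular -/
def uu (a : K) : SL2 := ⟨!![1, a; 0, 1], by simp [Matrix.det_fin_two_of]⟩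

/-- lower unitriangular -/
def ll (b : K) : SL2 := ⟨!![1, 0; b, 1], by simp [Matrix.det_fin_two_of]⟩

/-- diagonal -/
def hh (t : Kˣ) : SL2 := ⟨!![(t : K), 0; 0, ((t⁻¹ : Kˣ) : K)], by simp [Matrix.det_fin_two_of]⟩

theorem uu_val (a : K) : ((uu a : SL2) : M2) = !![1, a; 0, 1] := rfl
theorem ll_val (b : K) : ((ll b : SL2) : M2) = !![1, 0; b, 1] := rfl

theorem sl2_ext {g h : SL2} (h00 : (g : M2) 0 0 = (h : M2) 0 0) (h01 : (g : M2) 0 1 = (h : M2) 0 1)
    (h10 : (g : M2) 1 0 = (h : M2) 1 0) (h11 : (g : M2) 1 1 = (h : M2) 1 1) : g = h := by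
  apply Subtype.ext
  ext i j
  fin_cases i <;> fin_cases j <;> assumption

theorem mul_apply_00 (g h : SL2) :
    ((g * h : SL2) : M2) 0 0 = (g : M2) 0 0 * (h : M2) 0 0 + (g : M2) 0 1 * (h : M2) 1 0 := by
  rw [Matrix.SpecialLinearGroup.coe_mul, Matrix.mul_apply, Fin.sum_univ_two]
theorem mul_apply_01 (g h : SL2) :
    ((g * h : SL2) : M2) 0 1 = (g : M2) 0 0 * (h : M2) 0 1 + (g : M2) 0 1 * (h : M2) 1 1 := by
  rw [Matrix.SpecialLinearGroup.coe_mul, Matrix.mul_apply, Fin.sum_univ_two]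
theorem mul_apply_10 (g h : SL2) :
    ((g * h : SL2) : M2) 1 0 = (g : M2) 1 0 * (h : M2) 0 0 + (g : M2) 1 1 * (h : M2) 1 0 := by
  rw [Matrix.SpecialLinearGroup.coe_mul, Matrix.mul_apply, Fin.sum_univ_two]
theorem mul_apply_11 (g h : SL2) :
    ((g * h : SL2) : M2) 1 1 = (g : M2) 1 0 * (h : M2) 0 1 + (g : M2) 1 1 * (h : M2) 1 1 := by
  rw [Matrix.SpecialLinearGroup.coe_mul, Matrix.mul_apply, Fin.sum_univ_two]

theorem inv_apply_00 (g : SL2) : ((g⁻¹ : SL2) : M2) 0 0 = (g : M2) 1 1 := by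
  rw [Matrix.SpecialLinearGroup.coe_inv, Matrix.adjugate_fin_two]; simp
theorem inv_apply_01 (g : SL2) : ((g⁻¹ : SL2) : M2) 0 1 = -(g : M2) 0 1 := by
  rw [Matrix.SpecialLinearGroup.coe_inv, Matrix.adjugate_fin_two]; simp
theorem inv_apply_10 (g : SL2) : ((g⁻¹ : SL2) : M2) 1 0 = -(g : M2) 1 0 := by
  rw [Matrix.SpecialLinearGroup.coe_inv, Matrix.adjugate_fin_two]; simp
theorem inv_apply_11 (g : SL2) : ((g⁻¹ : SL2) : M2) 1 1 = (g : M2) 0 0 := by
  rw [Matrix.SpecialLinearGroup.coe_inv, Matrix.adjugate_fin_two]; simp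

theorem det_eq (g : SL2) : (g : M2) 0 0 * (g : M2) 1 1 - (g : M2) 0 1 * (g : M2) 1 0 = 1 := by
  have := g.det_coe
  rwa [Matrix.det_fin_two] at this

theorem trace_eq (g : SL2) : (g : M2).trace = (g : M2) 0 0 + (g : M2) 1 1 :=
  Matrix.trace_fin_two _

@[simp] theorem uu_00 (a : K) : ((uu a : SL2) : M2) 0 0 = 1 := rfl
@[simp] theorem uu_01 (a : K) : ((uu a : SL2) : M2) 0 1 = a := rfl
@[simp] theorem uu_10 (a : K) : ((uu a : SL2) : M2) 1 0 = 0 := rfl
@[simp] theorem uu_11 (a : K) : ((uu a : SL2) : M2) 1 1 = 1 := rfl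
@[simp] theorem ll_00 (a : K) : ((ll a : SL2) : M2) 0 0 = 1 := rfl
@[simp] theorem ll_01 (a : K) : ((ll a : SL2) : M2) 0 1 = 0 := rfl
@[simp] theorem ll_10 (a : K) : ((ll a : SL2) : M2) 1 0 = a := rfl
@[simp] theorem ll_11 (a : K) : ((ll a : SL2) : M2) 1 1 = 1 := rfl

theorem uu_add (a b : K) : uu (a + b) = uu a * uu b := by
  apply sl2_ext <;> simp [mul_apply_00, mul_apply_01, mul_apply_10, mul_apply_11, add_comm]

theorem uu_zero : (uu (0 : K) : SL2) = 1 := by
  apply sl2_ext <;> simp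

theorem uu_neg (a : K) : uu (-a) = (uu a)⁻¹ := by
  apply sl2_ext <;> simp [inv_apply_00, inv_apply_01, inv_apply_10, inv_apply_11]

theorem uu_injective : Function.Injective (uu : K → SL2) := by
  intro a b h
  have := congrArg (fun g : SL2 => (g : M2) 0 1) h
  simpa using this

theorem ll_add (a b : K) : ll (a + b) = ll a * ll b := by
  apply sl2_ext <;> simp [mul_apply_00, mul_apply_01, mul_apply_10, mul_apply_11]

theorem ll_zero : (ll (0 : K) : SL2) = 1 := by
  apply sl2_ext <;> simp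

theorem ll_neg (a : K) : ll (-a) = (ll a)⁻¹ := by
  apply sl2_ext <;> simp [inv_apply_00, inv_apply_01, inv_apply_10, inv_apply_11]

theorem ll_injective : Function.Injective (ll : K → SL2) := by
  intro a b h
  have := congrArg (fun g : SL2 => (g : M2) 1 0) h
  simpa using this

theorem uu_nsmul (a : K) (n : ℕ) : uu (n • a) = (uu a) ^ n := by
  induction n with
  | zero => simp [uu_zero]
  | succ n ih => rw [succ_nsmul, uu_add, ih, pow_succ]

/-- `g` commutes with `uu lam` (`lam ≠ 0`) iff it is `±` upper unitriangular. -/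
theorem commute_uu_iff {lam : K} (hlam : lam ≠ 0) (g : SL2) :
    g * uu lam = uu lam * g ↔ (g : M2) 1 0 = 0 ∧ (g : M2) 0 0 = (g : M2) 1 1 := by
  constructor
  · intro h
    have h00 := congrArg (fun x : SL2 => (x : M2) 0 0) h
    have h01 := congrArg (fun x : SL2 => (x : M2) 0 1) h
    simp only [mul_apply_00, mul_apply_01, uu_00, uu_01, uu_10, uu_11, mul_one, mul_zero,
      add_zero, one_mul] at h00 h01
    have h10 : (g : M2) 1 0 = 0 := by
      have : lam * (g : M2) 1 0 = 0 := by linear_combination -h00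
      exact (mul_eq_zero.mp this).resolve_left hlam
    refine ⟨h10, ?_⟩
    have : lam * ((g : M2) 0 0 - (g : M2) 1 1) = 0 := by linear_combination h01
    exact sub_eq_zero.mp ((mul_eq_zero.mp this).resolve_left hlam)
  · rintro ⟨h10, h00⟩
    apply sl2_ext <;>
      simp only [mul_apply_00, mul_apply_01, mul_apply_10, mul_apply_11, uu_00, uu_01, uu_10,
        uu_11, mul_one, mul_zero, add_zero, one_mul, zero_mul, zero_add, h10, h00]
    ring

/-- the `(1,0)`-entry of `g * uu lam * g⁻¹` -/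
theorem conj_uu_10 (g : SL2) (lam : K) :
    ((g * uu lam * g⁻¹ : SL2) : M2) 1 0 = -lam * (g : M2) 1 0 ^ 2 := by
  simp only [mul_apply_10, mul_apply_11, inv_apply_00, inv_apply_10,
    uu_00, uu_01, uu_10, uu_11]
  ring

/-- conjugating `uu a` by an upper triangular matrix -/
theorem conj_uu_of_upper {g : SL2} (hg : (g : M2) 1 0 = 0) (a : K) :
    g * uu a * g⁻¹ = uu ((g : M2) 0 0 ^ 2 * a) := by
  have hd := det_eq g
  rw [hg, mul_zero, sub_zero] at hd
  apply sl2_ext <;>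
    simp only [mul_apply_10, mul_apply_00, mul_apply_01, mul_apply_11, inv_apply_00, inv_apply_10,
      inv_apply_01, inv_apply_11, uu_00, uu_01, uu_10, uu_11, hg]
  · linear_combination hd
  · ring
  · ring
  · linear_combination hd

end Cfsg.Agent.Lib.H4.Dickson
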