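import Mathlib
import Cfsg.Agent.Lib.H4.Dickson.SL2Mat
import Cfsg.Agent.Lib.H4.Dickson.ClassEq

/-!
# Subgroups of `SL₂(K)`: centralizers, tori, the upper triangular part
-/

set_option autoImplicit false

namespace Cfsg.Agent.Lib.H4.Dickson

open Matrix Cfsg.Agent.Lib.H12

variable {K : Type*} [Field K]

local notation "SL2" => Matrix.SpecialLinearGroup (Fin 2) K
local notation "M2" => Matrix (Fin 2) (Fin 2) K

variable (L : Subgroup (Matrix.SpecialLinearGroup (Fin 2) K))

/-- the central part of `L`, as a subgroup of `L` -/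
def ZL : Subgroup ↥L := (Subgroup.center SL2).subgroupOf L

theorem mem_ZL {g : ↥L} : g ∈ ZL L ↔ (g : SL2) ∈ Subgroup.center SL2 := Subgroup.mem_subgroupOf

theorem mem_ZL_iff (g : ↥L) : g ∈ ZL L ↔ (g : SL2) = 1 ∨ (g : SL2) = -1 := by
  rw [mem_ZL]
  constructor
  · exact sl2_center_cases _
  · rintro (h | h)
    · rw [h]; exact Subgroup.one_mem _
    · rw [h]; exact sl2_neg_one_mem_center

theorem nonScalar_of_not_mem_ZL {g : ↥L} (hg : g ∉ ZL L) : NonScalar ((g : SL2) : M2) := by
  by_contra h
  exact hg ((mem_ZL L).2 (sl2_mem_center_of_not_nonScalar _ h))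

theorem caz : CAZ (ZL L) where
  central := fun z hz g =>
    Subtype.ext ((Subgroup.mem_center_iff.1 ((mem_ZL L).1 hz) (g : SL2)).symm)
  ca := fun g hg x y hx hy => by
    have hd := nonScalar_of_not_mem_ZL L hg
    apply Subtype.ext
    have hx' : (x : SL2) ∈ Subgroup.centralizer ({(g : SL2)} : Set SL2) := by
      rw [Subgroup.mem_centralizer_singleton_iff]
      exact congrArg Subtype.val hx
    have hy' : (y : SL2) ∈ Subgroup.centralizer ({(g : SL2)} : Set SL2) := by
      rw [Subgroup.mem_centralizer_singleton_iff]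
      exact congrArg Subtype.val hy
    exact centralizer_comm hd hx' hy'

/-- torus type: regular semisimple -/
def tor (g : ↥L) : Prop := ((g : SL2) : M2).trace ^ 2 ≠ 4

variable {L}

theorem tor_not_mem_ZL {g : ↥L} (hg : tor L g) : g ∉ ZL L := by
  intro h
  apply hg
  rcases (mem_ZL_iff L g).1 h with h1 | h1
  · rw [h1, Matrix.SpecialLinearGroup.coe_one, Matrix.trace_fin_two]
    simp only [Matrix.one_apply_eq]; norm_num
  · rw [h1, Matrix.SpecialLinearGroup.coe_neg, Matrix.SpecialLinearGroup.coe_one,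
      Matrix.trace_fin_two]
    simp only [Matrix.neg_apply, Matrix.one_apply_eq]; norm_num

theorem mem_cent_coe {g x : ↥L} : x ∈ cent g ↔ (x : SL2) * (g : SL2) = (g : SL2) * (x : SL2) := by
  rw [mem_cent]
  constructor
  · intro h; exact congrArg Subtype.val h
  · intro h; exact Subtype.ext h

/-- the normalizer of a torus has index at most two over the torus -/
theorem tor_norm (h2 : (2 : K) ≠ 0) [Finite L] {x : ↥L} (hx : tor L x) :
    ∃ e : ℕ, (e = 1 ∨ e = 2) ∧
      Nat.card (Subgroup.normalizer ((cent x : Subgroup ↥L) : Set ↥L)) = e * Nat.card (cent x) := by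
  have hle : cent x ≤ Subgroup.normalizer ((cent x : Subgroup ↥L) : Set ↥L) :=
    Subgroup.le_normalizer
  -- conjugates of `x` by the normalizer
  have hcases : ∀ b ∈ Subgroup.normalizer ((cent x : Subgroup ↥L) : Set ↥L),
      b * x * b⁻¹ = x ∨ b * x * b⁻¹ = x⁻¹ := by
    intro b hb
    have h1 : b * x * b⁻¹ ∈ cent x :=
      (Subgroup.mem_normalizer_iff.1 hb x).1 (self_mem_cent x)
    have h2' : (b : SL2) * (x : SL2) * (b : SL2)⁻¹ ∈
        Subgroup.centralizer ({(x : SL2)} : Set SL2) := by
      rw [Subgroup.mem_centralizer_singleton_iff]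
      exact mem_cent_coe.1 h1
    rcases Cfsg.Agent.Lib.H8.SL2Odd.conj_cases' h2 hx h2' with h3 | h3
    · left; exact Subtype.ext h3
    · right; exact Subtype.ext h3
  have hdvd : (cent x).relIndex (Subgroup.normalizer ((cent x : Subgroup ↥L) : Set ↥L)) ∣ 2 := by
    rw [Subgroup.relIndex_dvd_two_iff]
    by_cases hall : ∀ b ∈ Subgroup.normalizer ((cent x : Subgroup ↥L) : Set ↥L), b ∈ cent x
    · exact ⟨1, Subgroup.one_mem _, fun b hb => Or.inr (hall b hb)⟩
    · push Not at hall
      obtain ⟨a, haN, haC⟩ := hall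
      have ha : a * x * a⁻¹ = x⁻¹ := by
        rcases hcases a haN with h | h
        · exfalso
          apply haC
          rw [mem_cent]
          calc a * x = (a * x * a⁻¹) * a := by group
            _ = x * a := by rw [h]
        · exact h
      refine ⟨a, haN, fun b hb => ?_⟩
      rcases hcases b hb with h | h
      · right
        rw [mem_cent]
        calc b * x = (b * x * b⁻¹) * b := by group
          _ = x * b := by rw [h]
      · left
        rw [mem_cent]
        have h3 : b * a * x * (b * a)⁻¹ = x := by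
          calc b * a * x * (b * a)⁻¹ = b * (a * x * a⁻¹) * b⁻¹ := by group
            _ = b * x⁻¹ * b⁻¹ := by rw [ha]
            _ = (b * x * b⁻¹)⁻¹ := by group
            _ = x := by rw [h, inv_inv]
        calc b * a * x = (b * a * x * (b * a)⁻¹) * (b * a) := by group
          _ = x * (b * a) := by rw [h3]
  have hcard := Subgroup.relIndex_mul_relIndex (⊥ : Subgroup ↥L) _ _ bot_le hle
  rw [Subgroup.relIndex_bot_left, Subgroup.relIndex_bot_left] at hcard
  have h12 : (cent x).relIndex (Subgroup.normalizer ((cent x : Subgroup ↥L) : Set ↥L)) = 1 ∨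
      (cent x).relIndex (Subgroup.normalizer ((cent x : Subgroup ↥L) : Set ↥L)) = 2 :=
    (Nat.dvd_prime Nat.prime_two).1 hdvd
  refine ⟨_, h12, ?_⟩
  rw [← hcard, mul_comm]

end Cfsg.Agent.Lib.H4.Dickson
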