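import Mathlib
import Cfsg.Agent.Lib.H4.Dickson.SL2Struct

/-!
# The upper triangular part of a subgroup of `SL₂(K)`
-/

set_option autoImplicit false

namespace Cfsg.Agent.Lib.H4.Dickson

open Matrix Cfsg.Agent.Lib.H12

variable {K : Type*} [Field K]

local notation "SL2" => Matrix.SpecialLinearGroup (Fin 2) K
local notation "M2" => Matrix (Fin 2) (Fin 2) K

variable (L : Subgroup (Matrix.SpecialLinearGroup (Fin 2) K))

/-- `{a | uu a ∈ L}` -/
def AA : AddSubgroup K where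
  carrier := {a | uu a ∈ L}
  zero_mem' := by
    show uu (0 : K) ∈ L
    rw [uu_zero]; exact L.one_mem
  add_mem' := fun {a b} ha hb => by
    show uu (a + b) ∈ L
    rw [uu_add]; exact L.mul_mem ha hb
  neg_mem' := fun {a} ha => by
    show uu (-a) ∈ L
    rw [uu_neg]; exact L.inv_mem ha

/-- `{b | ll b ∈ L}` -/
def BB : AddSubgroup K where
  carrier := {a | ll a ∈ L}
  zero_mem' := by
    show ll (0 : K) ∈ L
    rw [ll_zero]; exact L.one_mem
  add_mem' := fun {a b} ha hb => by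
    show ll (a + b) ∈ L
    rw [ll_add]; exact L.mul_mem ha hb
  neg_mem' := fun {a} ha => by
    show ll (-a) ∈ L
    rw [ll_neg]; exact L.inv_mem ha

theorem mem_AA {a : K} : a ∈ AA L ↔ uu a ∈ L := Iff.rfl
theorem mem_BB {a : K} : a ∈ BB L ↔ ll a ∈ L := Iff.rfl

/-- entries of an element of `L` -/
def en (g : ↥L) (i j : Fin 2) : K := ((g : SL2) : M2) i j

theorem en_def (g : ↥L) (i j : Fin 2) : en L g i j = ((g : SL2) : M2) i j := rfl

variable {L}

theorem en_mul_00 (g h : ↥L) : en L (g * h) 0 0 = en L g 0 0 * en L h 0 0 + en L g 0 1 * en L h 1 0 :=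
  mul_apply_00 _ _
theorem en_mul_01 (g h : ↥L) : en L (g * h) 0 1 = en L g 0 0 * en L h 0 1 + en L g 0 1 * en L h 1 1 :=
  mul_apply_01 _ _
theorem en_mul_10 (g h : ↥L) : en L (g * h) 1 0 = en L g 1 0 * en L h 0 0 + en L g 1 1 * en L h 1 0 :=
  mul_apply_10 _ _
theorem en_mul_11 (g h : ↥L) : en L (g * h) 1 1 = en L g 1 0 * en L h 0 1 + en L g 1 1 * en L h 1 1 :=
  mul_apply_11 _ _
theorem en_inv_00 (g : ↥L) : en L g⁻¹ 0 0 = en L g 1 1 := inv_apply_00 _
theorem en_inv_01 (g : ↥L) : en L g⁻¹ 0 1 = -en L g 0 1 := inv_apply_01 _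
theorem en_inv_10 (g : ↥L) : en L g⁻¹ 1 0 = -en L g 1 0 := inv_apply_10 _
theorem en_inv_11 (g : ↥L) : en L g⁻¹ 1 1 = en L g 0 0 := inv_apply_11 _
theorem en_one_00 : en L 1 0 0 = 1 := by simp [en]
theorem en_one_01 : en L 1 0 1 = 0 := by simp [en]
theorem en_one_10 : en L 1 1 0 = 0 := by simp [en]
theorem en_one_11 : en L 1 1 1 = 1 := by simp [en]
theorem en_det (g : ↥L) : en L g 0 0 * en L g 1 1 - en L g 0 1 * en L g 1 0 = 1 := det_eq _

theorem en_ext {g h : ↥L} (h00 : en L g 0 0 = en L h 0 0) (h01 : en L g 0 1 = en L h 0 1)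
    (h10 : en L g 1 0 = en L h 1 0) (h11 : en L g 1 1 = en L h 1 1) : g = h :=
  Subtype.ext (sl2_ext h00 h01 h10 h11)

variable (L)

/-- the upper triangular part of `L` -/
def SS : Subgroup ↥L where
  carrier := {g | en L g 1 0 = 0}
  one_mem' := en_one_10
  mul_mem' := fun {a b} ha hb => by
    show en L (a * b) 1 0 = 0
    rw [en_mul_10, show en L a 1 0 = 0 from ha, show en L b 1 0 = 0 from hb]; ring
  inv_mem' := fun {a} ha => by
    show en L a⁻¹ 1 0 = 0
    rw [en_inv_10, show en L a 1 0 = 0 from ha, neg_zero]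

theorem mem_SS {g : ↥L} : g ∈ SS L ↔ en L g 1 0 = 0 := Iff.rfl

variable {L}

theorem diag_of_upper {g : ↥L} (hg : en L g 1 0 = 0) : en L g 0 0 * en L g 1 1 = 1 := by
  have := en_det g
  rw [hg, mul_zero, sub_zero] at this
  exact this

variable (L)

/-- the diagonal character of the upper triangular part -/
def chi : ↥(SS L) →* Kˣ where
  toFun g := Units.mkOfMulEqOne (en L g 0 0) (en L g 1 1) (diag_of_upper g.2)
  map_one' := by
    apply Units.ext
    rw [Units.val_mkOfMulEqOne]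
    exact en_one_00
  map_mul' := fun a b => by
    apply Units.ext
    rw [Units.val_mul, Units.val_mkOfMulEqOne, Units.val_mkOfMulEqOne, Units.val_mkOfMulEqOne]
    show en L ((a : ↥L) * (b : ↥L)) 0 0 = _
    rw [en_mul_00, show en L (b : ↥L) 1 0 = 0 from b.2]; ring

theorem chi_val (g : ↥(SS L)) : ((chi L g : Kˣ) : K) = en L g 0 0 := rfl

/-- the group of diagonal entries -/
def RR : Subgroup Kˣ := (chi L).range

theorem mem_RR {t : Kˣ} : t ∈ RR L ↔ ∃ g : ↥L, en L g 1 0 = 0 ∧ en L g 0 0 = (t : K) := by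
  constructor
  · rintro ⟨g, rfl⟩
    exact ⟨g, g.2, rfl⟩
  · rintro ⟨g, hg, ht⟩
    exact ⟨⟨g, hg⟩, Units.ext ht⟩

end Cfsg.Agent.Lib.H4.Dickson
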