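import Mathlib
import Cfsg.Agent.Lib.H4.Dickson.SL2Upper

/-!
# The upper triangular part of a subgroup of `SL₂(K)`: cardinalities
-/

set_option autoImplicit false

namespace Cfsg.Agent.Lib.H4.Dickson

open Matrix Cfsg.Agent.Lib.H12

variable {K : Type*} [Field K]

local notation "SL2" => Matrix.SpecialLinearGroup (Fin 2) K
local notation "M2" => Matrix (Fin 2) (Fin 2) K

variable {L : Subgroup (Matrix.SpecialLinearGroup (Fin 2) K)}

theorem coe_eq_uu {g : ↥L} (h10 : en L g 1 0 = 0) (h00 : en L g 0 0 = 1) :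
    (g : SL2) = uu (en L g 0 1) := by
  have hd := diag_of_upper h10
  rw [h00, one_mul] at hd
  apply sl2_ext
  · rw [uu_00]; exact h00
  · rw [uu_01]; rfl
  · rw [uu_10]; exact h10
  · rw [uu_11]; exact hd

theorem en_uu_mk {a : K} (ha : uu a ∈ L) (i j : Fin 2) :
    en L ⟨uu a, ha⟩ i j = ((uu a : SL2) : M2) i j := rfl

variable (L)

/-- the kernel of `chi` is the group of `uu a`, `a ∈ AA L`. -/
noncomputable def kerEquiv : ↥(AA L) ≃ ↥(chi L).ker where
  toFun a := ⟨⟨⟨uu (a : K), (mem_AA L).1 a.2⟩, uu_10 _⟩, by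
    rw [MonoidHom.mem_ker]
    apply Units.ext
    rw [chi_val]
    exact uu_00 _⟩
  invFun g := ⟨en L ((g : ↥(SS L)) : ↥L) 0 1, by
    have h10 : en L ((g : ↥(SS L)) : ↥L) 1 0 = 0 := (g : ↥(SS L)).2
    have h00 : en L ((g : ↥(SS L)) : ↥L) 0 0 = 1 := by
      have := g.2
      rw [MonoidHom.mem_ker] at this
      have h2 := congrArg Units.val this
      rwa [chi_val] at h2
    rw [mem_AA, ← coe_eq_uu h10 h00]
    exact (((g : ↥(SS L)) : ↥L)).2⟩
  left_inv a := by
    apply Subtype.ext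
    exact uu_01 _
  right_inv g := by
    have h10 : en L ((g : ↥(SS L)) : ↥L) 1 0 = 0 := (g : ↥(SS L)).2
    have h00 : en L ((g : ↥(SS L)) : ↥L) 0 0 = 1 := by
      have := g.2
      rw [MonoidHom.mem_ker] at this
      have h2 := congrArg Units.val this
      rwa [chi_val] at h2
    apply Subtype.ext
    apply Subtype.ext
    apply Subtype.ext
    exact (coe_eq_uu h10 h00).symm

theorem card_SS [Finite K] : Nat.card (SS L) = Nat.card (AA L) * Nat.card (RR L) := by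
  rw [← Subgroup.card_mul_index (chi L).ker, Subgroup.index_ker, Nat.card_congr (kerEquiv L)]
  rfl


variable {L}

section charp

variable (p : ℕ) [Fact p.Prime] [CharP K p]

include p in
theorem two_ne_zero_of_odd (hp : p ≠ 2) : (2 : K) ≠ 0 := by
  intro h
  have h2 : ((2 : ℕ) : K) = 0 := by exact_mod_cast h
  have := (CharP.cast_eq_zero_iff K p 2).1 h2
  have hp2 := (Nat.prime_dvd_prime_iff_eq (Fact.out : p.Prime) Nat.prime_two).1 this
  exact hp hp2

/-- an element of `L` with trace `-2` forces `-1 ∈ L` -/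
theorem neg_one_mem_of_trace (hp : p ≠ 2) {g : SL2} (hg : g ∈ L) (ht : (g : M2).trace = -2) :
    (-1 : SL2) ∈ L := by
  have h2 := two_ne_zero_of_odd (K := K) p hp
  have h1 : ((-g : SL2) : M2).trace = 2 := by
    rw [Matrix.SpecialLinearGroup.coe_neg, Matrix.trace_neg, ht, neg_neg]
  have h3 := (Cfsg.Agent.Lib.H8.SL2Odd.pow_char_eq_one_iff_trace p h2 (-g)).2 h1
  have hodd : Odd p := (Fact.out : p.Prime).odd_of_ne_two hp
  rw [neg_pow, hodd.neg_one_pow, neg_one_mul, neg_eq_iff_eq_neg] at h3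
  rw [← h3]
  exact L.pow_mem hg p

theorem neg_one_mem_of_upper (hp : p ≠ 2) {g : ↥L} (h10 : en L g 1 0 = 0) (h00 : en L g 0 0 = -1) :
    (-1 : SL2) ∈ L := by
  have hd := diag_of_upper h10
  rw [h00] at hd
  have h11 : en L g 1 1 = -1 := by linear_combination -hd
  apply neg_one_mem_of_trace p hp g.2
  rw [trace_eq]
  show en L g 0 0 + en L g 1 1 = -2
  rw [h00, h11]; ring

end charp

/-- membership in the centralizer of `uu lam` -/
theorem mem_cent_uu {lam : K} (hlam : lam ≠ 0) (hL : uu lam ∈ L) {x : ↥L} :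
    x ∈ cent (⟨uu lam, hL⟩ : ↥L) ↔ en L x 1 0 = 0 ∧ en L x 0 0 = en L x 1 1 := by
  rw [mem_cent_coe]
  exact commute_uu_iff hlam (x : SL2)

theorem cent_uu_le_SS {lam : K} (hlam : lam ≠ 0) (hL : uu lam ∈ L) :
    cent (⟨uu lam, hL⟩ : ↥L) ≤ SS L := fun _ hx => ((mem_cent_uu hlam hL).1 hx).1

/-- conjugation of upper triangular matrices preserves the diagonal -/
theorem conj_upper {g x : ↥L} (hg : en L g 1 0 = 0) (hx : en L x 1 0 = 0) :
    en L (g * x * g⁻¹) 1 0 = 0 ∧ en L (g * x * g⁻¹) 0 0 = en L x 0 0 ∧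
      en L (g * x * g⁻¹) 1 1 = en L x 1 1 := by
  have hd := diag_of_upper hg
  refine ⟨?_, ?_, ?_⟩
  · rw [en_mul_10, en_mul_10, en_mul_11, en_inv_00, en_inv_10, hg, hx]; ring
  · rw [en_mul_00, en_mul_00, en_mul_01, en_inv_00, en_inv_10, hg, hx]
    linear_combination en L x 0 0 * hd
  · rw [en_mul_11, en_mul_10, en_mul_11, en_inv_01, en_inv_11, hg, hx]
    linear_combination en L x 1 1 * hd

theorem normalizer_cent_uu {lam : K} (hlam : lam ≠ 0) (hL : uu lam ∈ L) :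
    Subgroup.normalizer ((cent (⟨uu lam, hL⟩ : ↥L) : Subgroup ↥L) : Set ↥L) = SS L := by
  ext g
  rw [mem_SS]
  constructor
  · intro hg
    have h1 : g * ⟨uu lam, hL⟩ * g⁻¹ ∈ cent (⟨uu lam, hL⟩ : ↥L) :=
      (Subgroup.mem_normalizer_iff.1 hg _).1 (self_mem_cent _)
    have h2 := ((mem_cent_uu hlam hL).1 h1).1
    have h3 : en L (g * ⟨uu lam, hL⟩ * g⁻¹) 1 0 = -lam * en L g 1 0 ^ 2 := conj_uu_10 (g : SL2) lam
    rw [h3] at h2
    have h4 : en L g 1 0 ^ 2 = 0 := by
      rcases mul_eq_zero.1 h2 with h | h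
      · exact absurd (neg_eq_zero.1 h) hlam
      · exact h
    exact pow_eq_zero_iff (two_ne_zero) |>.1 h4
  · intro hg
    have key : ∀ k : ↥L, en L k 1 0 = 0 → ∀ x, x ∈ cent (⟨uu lam, hL⟩ : ↥L) →
        k * x * k⁻¹ ∈ cent (⟨uu lam, hL⟩ : ↥L) := by
      intro k hk x hx
      obtain ⟨hx1, hx2⟩ := (mem_cent_uu hlam hL).1 hx
      obtain ⟨c1, c2, c3⟩ := conj_upper hk hx1
      exact (mem_cent_uu hlam hL).2 ⟨c1, by rw [c2, c3, hx2]⟩
    rw [Subgroup.mem_normalizer_iff]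
    intro x
    constructor
    · exact key g hg x
    · intro hx
      have hg' : en L g⁻¹ 1 0 = 0 := by rw [en_inv_10, hg, neg_zero]
      have := key g⁻¹ hg' _ hx
      have e : g⁻¹ * (g * x * g⁻¹) * g⁻¹⁻¹ = x := by group
      rwa [e] at this

end Cfsg.Agent.Lib.H4.Dickson
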