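import Mathlib
import Cfsg.Agent.Lib.H4.Dickson.SL2Upper2

/-!
# The centralizer of an upper unitriangular element
-/

set_option autoImplicit false

namespace Cfsg.Agent.Lib.H4.Dickson

open Matrix Cfsg.Agent.Lib.H12

variable {K : Type*} [Field K]

local notation "SL2" => Matrix.SpecialLinearGroup (Fin 2) K
local notation "M2" => Matrix (Fin 2) (Fin 2) K

variable {L : Subgroup (Matrix.SpecialLinearGroup (Fin 2) K)}

theorem en_of_mem_ZL {w : ↥L} (hw : w ∈ ZL L) :
    en L w 0 1 = 0 ∧ en L w 1 0 = 0 ∧ en L w 1 1 = en L w 0 0 ∧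
      (en L w 0 0 = 1 ∨ en L w 0 0 = -1) := by
  rcases (mem_ZL_iff L w).1 hw with h | h
  · have e : ∀ i j, en L w i j = ((1 : SL2) : M2) i j := fun i j => by rw [en_def, h]
    refine ⟨?_, ?_, ?_, Or.inl ?_⟩ <;> simp [e]
  · have e : ∀ i j, en L w i j = ((-1 : SL2) : M2) i j := fun i j => by rw [en_def, h]
    refine ⟨?_, ?_, ?_, Or.inr ?_⟩ <;> simp [e]

theorem mem_ZL_of_en {w : ↥L} (h01 : en L w 0 1 = 0) (h10 : en L w 1 0 = 0)
    (h00 : en L w 0 0 = 1 ∨ en L w 0 0 = -1) (h11 : en L w 1 1 = en L w 0 0) : w ∈ ZL L := by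
  rw [mem_ZL_iff]
  rcases h00 with h | h
  · left
    apply sl2_ext
    · rw [← en_def, h]; simp
    · rw [← en_def, h01]; simp
    · rw [← en_def, h10]; simp
    · rw [← en_def, h11, h]; simp
  · right
    apply sl2_ext
    · rw [← en_def, h]; simp
    · rw [← en_def, h01]; simp
    · rw [← en_def, h10]; simp
    · rw [← en_def, h11, h]; simp

theorem SS_ZL_le : ZL L ≤ SS L := fun _ hw => (en_of_mem_ZL hw).2.1

section charp

variable (p : ℕ) [Fact p.Prime] [CharP K p]

theorem card_cent_uu (hp : p ≠ 2) {lam : K} (hlam : lam ≠ 0) (hL : uu lam ∈ L) :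
    Nat.card (cent (⟨uu lam, hL⟩ : ↥L)) = Nat.card (ZL L) * Nat.card (AA L) := by
  have h2 := two_ne_zero_of_odd (K := K) p hp
  rw [← Nat.card_prod]
  symm
  apply Nat.card_congr
  have hmem : ∀ wa : ↥(ZL L) × ↥(AA L), (wa.1 : ↥L) * ⟨uu (wa.2 : K), (mem_AA L).1 wa.2.2⟩ ∈
      cent (⟨uu lam, hL⟩ : ↥L) := by
    intro wa
    apply Subgroup.mul_mem
    · exact (caz L).le_cent _ wa.1.2
    · rw [mem_cent_uu hlam hL]
      exact ⟨uu_10 _, (uu_00 _).trans (uu_11 _).symm⟩
  refine Equiv.ofBijective (fun wa => ⟨_, hmem wa⟩) ⟨?_, ?_⟩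
  · rintro ⟨w, a⟩ ⟨w', a'⟩ h
    have h' : (w : ↥L) * ⟨uu (a : K), (mem_AA L).1 a.2⟩ =
        (w' : ↥L) * ⟨uu (a' : K), (mem_AA L).1 a'.2⟩ := congrArg Subtype.val h
    obtain ⟨w01, w10, w11, w00⟩ := en_of_mem_ZL w.2
    obtain ⟨w01', w10', w11', w00'⟩ := en_of_mem_ZL w'.2
    have e00 := congrArg (fun g => en L g 0 0) h'
    have e01 := congrArg (fun g => en L g 0 1) h'
    simp only [en_mul_00, en_mul_01] at e00 e01
    simp only [en_uu_mk, uu_00, uu_10, uu_01, uu_11, w01, w01'] at e00 e01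
    have e00' : en L (w : ↥L) 0 0 = en L (w' : ↥L) 0 0 := by linear_combination e00
    have hne : en L (w' : ↥L) 0 0 ≠ 0 := by
      rcases w00' with h | h <;> rw [h] <;> simp
    have ha : (a : K) = (a' : K) := by
      rw [e00'] at e01
      have : en L (w' : ↥L) 0 0 * ((a : K) - (a' : K)) = 0 := by linear_combination e01
      rcases mul_eq_zero.1 this with h | h
      · exact absurd h hne
      · exact sub_eq_zero.1 h
    have hw : (w : ↥L) = (w' : ↥L) := en_ext e00' (by rw [w01, w01']) (by rw [w10, w10'])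
      (by rw [w11, w11', e00'])
    exact Prod.ext (Subtype.ext hw) (Subtype.ext ha)
  · rintro ⟨x, hx⟩
    obtain ⟨h10, h01⟩ := (mem_cent_uu hlam hL).1 hx
    have hd := diag_of_upper h10
    have hsq : (en L x 0 0 - 1) * (en L x 0 0 + 1) = 0 := by
      rw [← h01] at hd; linear_combination hd
    rcases mul_eq_zero.1 hsq with h | h
    · have h00 : en L x 0 0 = 1 := sub_eq_zero.1 h
      have hxu := coe_eq_uu h10 h00
      have hA : en L x 0 1 ∈ AA L := by rw [mem_AA, ← hxu]; exact x.2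
      refine ⟨⟨1, ⟨en L x 0 1, hA⟩⟩, ?_⟩
      apply Subtype.ext
      apply Subtype.ext
      show ((1 : ↥L) : SL2) * uu (en L x 0 1) = x
      rw [← hxu]; simp
    · have h00 : en L x 0 0 = -1 := by linear_combination h
      have hneg : (-1 : SL2) ∈ L := neg_one_mem_of_upper p hp h10 h00
      have hwZ : (⟨-1, hneg⟩ : ↥L) ∈ ZL L := by rw [mem_ZL_iff]; right; rfl
      have h11 : en L x 1 1 = -1 := by rw [← h01, h00]
      have hxu : (-1 : SL2) * (x : SL2) = uu (-en L x 0 1) := by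
        apply sl2_ext
        · rw [neg_one_mul, Matrix.SpecialLinearGroup.coe_neg, Matrix.neg_apply, uu_00, ← en_def, h00,
            neg_neg]
        · rw [neg_one_mul, Matrix.SpecialLinearGroup.coe_neg, Matrix.neg_apply, uu_01, ← en_def]
        · rw [neg_one_mul, Matrix.SpecialLinearGroup.coe_neg, Matrix.neg_apply, uu_10, ← en_def, h10,
            neg_zero]
        · rw [neg_one_mul, Matrix.SpecialLinearGroup.coe_neg, Matrix.neg_apply, uu_11, ← en_def, h11,
            neg_neg]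
      have hA : -en L x 0 1 ∈ AA L := by
        rw [mem_AA, ← hxu]; exact L.mul_mem hneg x.2
      refine ⟨⟨⟨_, hwZ⟩, ⟨_, hA⟩⟩, ?_⟩
      apply Subtype.ext
      apply Subtype.ext
      show (-1 : SL2) * uu (-en L x 0 1) = x
      rw [← hxu, ← mul_assoc]; simp

end charp

end Cfsg.Agent.Lib.H4.Dickson
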