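import Mathlib
import Cfsg.Agent.Lib.H4.Dickson.SL2Upper3

/-!
# Numerical relations between `|Z|`, `|A|` and the group of diagonal entries
-/

set_option autoImplicit false

namespace Cfsg.Agent.Lib.H4.Dickson

open Matrix Cfsg.Agent.Lib.H12

variable {K : Type*} [Field K]

local notation "SL2" => Matrix.SpecialLinearGroup (Fin 2) K
local notation "M2" => Matrix (Fin 2) (Fin 2) K

variable {L : Subgroup (Matrix.SpecialLinearGroup (Fin 2) K)}

theorem card_ZL_dvd [Finite K] : Nat.card (ZL L) ∣ Nat.card (RR L) := by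
  have hinj : Function.Injective (((chi L).rangeRestrict).comp (Subgroup.inclusion (SS_ZL_le (L := L)))) := by
    intro w w' h
    have h1 : chi L (Subgroup.inclusion SS_ZL_le w) = chi L (Subgroup.inclusion SS_ZL_le w') :=
      congrArg Subtype.val h
    have h2 : en L (w : ↥L) 0 0 = en L (w' : ↥L) 0 0 := congrArg Units.val h1
    obtain ⟨w01, w10, w11, -⟩ := en_of_mem_ZL w.2
    obtain ⟨w01', w10', w11', -⟩ := en_of_mem_ZL w'.2
    apply Subtype.ext
    exact en_ext h2 (by rw [w01, w01']) (by rw [w10, w10']) (by rw [w11, w11', h2])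
  exact Subgroup.card_dvd_of_injective _ hinj

/-- the character `g ↦ (g₀₀)²` -/
def chiSq (L : Subgroup (Matrix.SpecialLinearGroup (Fin 2) K)) : ↥(SS L) →* Kˣ where
  toFun g := chi L g ^ 2
  map_one' := by rw [map_one, one_pow]
  map_mul' := fun a b => by rw [map_mul, mul_pow]

theorem chiSq_val (g : ↥(SS L)) : ((chiSq L g : Kˣ) : K) = en L g 0 0 ^ 2 := by
  show ((chi L g ^ 2 : Kˣ) : K) = _
  rw [Units.val_pow_eq_pow_val, chi_val]

theorem chiSq_ker {lam : K} (hlam : lam ≠ 0) (hL : uu lam ∈ L) :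
    (chiSq L).ker = (cent (⟨uu lam, hL⟩ : ↥L)).subgroupOf (SS L) := by
  ext g
  rw [MonoidHom.mem_ker, Subgroup.mem_subgroupOf, mem_cent_uu hlam hL]
  have h10 : en L (g : ↥L) 1 0 = 0 := g.2
  have hd := diag_of_upper h10
  constructor
  · intro h
    have h1 : en L (g : ↥L) 0 0 ^ 2 = 1 := by
      rw [← chiSq_val, h]; rfl
    refine ⟨h10, ?_⟩
    have hne : en L (g : ↥L) 0 0 ≠ 0 := left_ne_zero_of_mul_eq_one hd
    apply mul_left_cancel₀ hne
    rw [hd, ← h1]; ring
  · rintro ⟨-, h⟩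
    apply Units.ext
    rw [chiSq_val, Units.val_one, pow_two]
    nth_rewrite 2 [h]
    exact hd

theorem chiSq_range_mul_mem {lam : K} (hL : uu lam ∈ L) {s : Kˣ} (hs : s ∈ (chiSq L).range) :
    (s : K) * lam ∈ AA L := by
  obtain ⟨g, rfl⟩ := hs
  rw [chiSq_val, mem_AA]
  have h := conj_uu_of_upper (g := ((g : ↥L) : SL2)) g.2 lam
  rw [← en_def] at h
  rw [← h]
  exact L.mul_mem (L.mul_mem (g : ↥L).2 hL) (L.inv_mem (g : ↥L).2)

theorem card_chiSq_range_le [Finite K] {lam : K} (hlam : lam ≠ 0) (hL : uu lam ∈ L) :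
    Nat.card (chiSq L).range ≤ Nat.card (AA L) - 1 := by
  have h1 : Nat.card (chiSq L).range = (((chiSq L).range : Subgroup Kˣ) : Set Kˣ).ncard :=
    Nat.card_coe_set_eq _
  have h2 : Nat.card (AA L) = ((AA L : AddSubgroup K) : Set K).ncard := Nat.card_coe_set_eq _
  have hinj : Function.Injective (fun s : Kˣ => (s : K) * lam) := by
    intro s t h
    exact Units.ext (mul_right_cancel₀ hlam h)
  rw [h1, h2, ← Set.ncard_image_of_injective _ hinj,
    ← Set.ncard_sdiff_singleton_of_mem (AddSubgroup.zero_mem (AA L))]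
  apply Set.ncard_le_ncard _ (Set.toFinite _)
  rintro _ ⟨s, hs, rfl⟩
  refine ⟨chiSq_range_mul_mem hL hs, ?_⟩
  rw [Set.mem_singleton_iff]
  exact mul_ne_zero s.ne_zero hlam

section charp

variable (p : ℕ) [Fact p.Prime] [CharP K p]

theorem card_RR_le [Finite K] (hp : p ≠ 2) {lam : K} (hlam : lam ≠ 0) (hL : uu lam ∈ L) :
    Nat.card (RR L) ≤ Nat.card (ZL L) * (Nat.card (AA L) - 1) := by
  have h1 := Subgroup.card_mul_index (chiSq L).ker
  rw [Subgroup.index_ker, chiSq_ker hlam hL,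
    Nat.card_congr (Subgroup.subgroupOfEquivOfLe (cent_uu_le_SS hlam hL)).toEquiv,
    card_cent_uu p hp hlam hL, card_SS] at h1
  have h2 := card_chiSq_range_le hlam hL
  have hq : 0 < Nat.card (AA L) := Nat.card_pos
  have h3 : Nat.card (AA L) * Nat.card (RR L) ≤
      Nat.card (AA L) * (Nat.card (ZL L) * (Nat.card (AA L) - 1)) := by
    rw [← h1]
    calc Nat.card (ZL L) * Nat.card (AA L) * Nat.card (chiSq L).range
        ≤ Nat.card (ZL L) * Nat.card (AA L) * (Nat.card (AA L) - 1) := Nat.mul_le_mul_left _ h2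
      _ = Nat.card (AA L) * (Nat.card (ZL L) * (Nat.card (AA L) - 1)) := by ring
  exact Nat.le_of_mul_le_mul_left h3 hq

end charp

end Cfsg.Agent.Lib.H4.Dickson
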