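import Mathlib
import Cfsg.Agent.Lib.H4.Dickson.SL2Upper4

/-!
# Torus-type elements of a subgroup of `SL₂(K)` in odd characteristic
-/

set_option autoImplicit false

namespace Cfsg.Agent.Lib.H4.Dickson

open Matrix Cfsg.Agent.Lib.H12

variable {K : Type*} [Field K]

local notation "SL2" => Matrix.SpecialLinearGroup (Fin 2) K
local notation "M2" => Matrix (Fin 2) (Fin 2) K

variable {L : Subgroup (Matrix.SpecialLinearGroup (Fin 2) K)}

theorem trace_en (g : ↥L) : ((g : SL2) : M2).trace = en L g 0 0 + en L g 1 1 := trace_eq _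

section charp

variable (p : ℕ) [Fact p.Prime] [CharP K p]

theorem card_AA_pow [Finite K] : ∃ k : ℕ, Nat.card (AA L) = p ^ k := by
  have := Fintype.ofFinite K
  obtain ⟨n, -, hn⟩ := FiniteField.card K p
  have h1 : Nat.card (AA L) ∣ Nat.card K := AddSubgroup.card_addSubgroup_dvd_card _
  rw [Nat.card_eq_fintype_card (α := K), hn] at h1
  obtain ⟨m, -, hm⟩ := (Nat.dvd_prime_pow (Fact.out : p.Prime)).1 h1
  exact ⟨m, hm⟩

theorem card_AA_ge [Finite K] (hp : p ≠ 2) {lam : K} (hlam : lam ≠ 0) (hL : uu lam ∈ L) :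
    3 ≤ Nat.card (AA L) ∧ Odd (Nat.card (AA L)) := by
  obtain ⟨k, hk⟩ := card_AA_pow (L := L) p
  have hpp : p.Prime := Fact.out
  have hodd : Odd p := hpp.odd_of_ne_two hp
  have h1 : 1 < Nat.card (AA L) := by
    have : Nontrivial ↥(AA L) := ⟨⟨⟨lam, (mem_AA L).2 hL⟩, 0, fun h => hlam (congrArg Subtype.val h)⟩⟩
    exact Finite.one_lt_card
  rw [hk] at h1 ⊢
  have hk0 : k ≠ 0 := by
    rintro rfl
    simp at h1
  have hp3 : 3 ≤ p := by
    have := hpp.two_le
    omega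
  refine ⟨?_, hodd.pow⟩
  calc 3 ≤ p := hp3
    _ = p ^ 1 := (pow_one p).symm
    _ ≤ p ^ k := Nat.pow_le_pow_right hpp.pos (Nat.one_le_iff_ne_zero.2 hk0)

end charp

theorem tor_not_cl {lam : K} (hlam : lam ≠ 0) (hL : uu lam ∈ L) {x : ↥L} (hx : tor L x) :
    x ∉ ZL L ∧ x ∉ cl (ZL L) (⟨uu lam, hL⟩ : ↥L) := by
  refine ⟨tor_not_mem_ZL hx, ?_⟩
  rintro ⟨-, k, hk⟩
  obtain ⟨h10, h01⟩ := (mem_cent_uu hlam hL).1 hk
  have hd := diag_of_upper h10
  apply hx
  have ht : ((x : SL2) : M2).trace = en L (k * x * k⁻¹) 0 0 + en L (k * x * k⁻¹) 1 1 := by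
    rw [← trace_en]
    exact (sl2_trace_conj (x : SL2) (k : SL2)).symm
  rw [ht, ← h01]
  rw [← h01] at hd
  linear_combination 4 * hd

section charp2

variable (p : ℕ) [Fact p.Prime] [CharP K p]

theorem ne_neg_one_of_pow (hp : p ≠ 2) {c : SL2} {k : ℕ} (hc : c ^ (p ^ k) = 1) : c ≠ -1 := by
  rintro rfl
  have hodd : Odd (p ^ k) := ((Fact.out : p.Prime).odd_of_ne_two hp).pow
  rw [hodd.neg_one_pow] at hc
  have h2 := two_ne_zero_of_odd (K := K) p hp
  have := congrArg (fun g : SL2 => (g : M2) 0 0) hc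
  simp only [Matrix.SpecialLinearGroup.coe_neg, Matrix.SpecialLinearGroup.coe_one,
    Matrix.neg_apply, Matrix.one_apply_eq] at this
  apply h2
  linear_combination -this

theorem tor_cop [Finite K] (hp : p ≠ 2) {x : ↥L} (hx : tor L x) :
    Nat.Coprime (Nat.card (cent x)) (Nat.card (AA L)) := by
  have h2 := two_ne_zero_of_odd (K := K) p hp
  obtain ⟨k, hk⟩ := card_AA_pow (L := L) p
  rw [hk]
  apply Nat.Coprime.pow_right
  rw [Nat.coprime_comm, (Fact.out : p.Prime).coprime_iff_not_dvd]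
  intro hdvd
  obtain ⟨c, hc⟩ := exists_prime_orderOf_dvd_card' p hdvd
  have hcp : ((c : ↥L) : SL2) ^ p = 1 := by
    have : c ^ p = 1 := by rw [← hc]; exact pow_orderOf_eq_one c
    have h3 := congrArg (fun g : ↥(cent x) => ((g : ↥L) : SL2)) this
    simpa using h3
  have hc1 : ((c : ↥L) : SL2) ≠ 1 := by
    intro h
    have : c = 1 := Subtype.ext (Subtype.ext h)
    rw [this, orderOf_one] at hc
    exact (Fact.out : p.Prime).one_lt.ne hc
  have hcZ : (c : ↥L) ∉ ZL L := by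
    intro h
    rcases (mem_ZL_iff L _).1 h with h | h
    · exact hc1 h
    · exact ne_neg_one_of_pow p hp (k := 1) (by rwa [pow_one]) h
  have hxZ := tor_not_mem_ZL hx
  have hcent := (caz L).cent_eq_of_mem hxZ hcZ c.2
  have hxc : x ∈ cent (c : ↥L) := by rw [hcent]; exact self_mem_cent x
  have hns := nonScalar_of_not_mem_ZL L hcZ
  have hxc' : (x : SL2) ∈ Subgroup.centralizer ({((c : ↥L) : SL2)} : Set SL2) := by
    rw [Subgroup.mem_centralizer_singleton_iff]
    exact mem_cent_coe.1 hxc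
  obtain ⟨α, β, hαβ⟩ := (mem_centralizer_iff_span hns _).1 hxc'
  have htc := (Cfsg.Agent.Lib.H8.SL2Odd.pow_char_eq_one_iff_trace p h2 _).1 hcp
  have hT : ((x : SL2) : M2).trace = 2 * α + β * 2 := by rw [hαβ, trace_span, htc]
  have hD : α ^ 2 + α * β * 2 + β ^ 2 = 1 := by
    have := det_span (((c : ↥L) : SL2) : M2) ((c : ↥L) : SL2).det_coe α β
    rw [htc, ← hαβ, (x : SL2).det_coe] at this
    exact this.symm
  apply hx
  rw [hT]
  linear_combination 4 * hD

end charp2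

end Cfsg.Agent.Lib.H4.Dickson
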