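import Mathlib
import Cfsg.Agent.Lib.H4.Dickson.SL2Tor

/-!
# Unipotent elements are conjugate into the upper triangular part (Sylow)
-/

set_option autoImplicit false

namespace Cfsg.Agent.Lib.H4.Dickson

open Matrix Cfsg.Agent.Lib.H12

variable {K : Type*} [Field K]

local notation "SL2" => Matrix.SpecialLinearGroup (Fin 2) K
local notation "M2" => Matrix (Fin 2) (Fin 2) K

variable {L : Subgroup (Matrix.SpecialLinearGroup (Fin 2) K)}

section charp

variable (p : ℕ) [Fact p.Prime] [CharP K p]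

theorem isPGroup_zpowers_of_pow {G : Type*} [Group G] {g : G} (hg : g ^ p = 1) :
    IsPGroup p (Subgroup.zpowers g) := by
  rintro ⟨x, hx⟩
  obtain ⟨n, rfl⟩ := Subgroup.mem_zpowers_iff.1 hx
  refine ⟨1, ?_⟩
  apply Subtype.ext
  show (g ^ n) ^ (p ^ 1) = 1
  rw [pow_one, ← zpow_natCast, ← _root_.zpow_mul, mul_comm, _root_.zpow_mul, zpow_natCast, hg,
    _root_.one_zpow]

/-- a unipotent element of `L` is conjugate into the centralizer of `uu lam` -/
theorem unip_conj [Finite K] (hp : p ≠ 2) {lam : K} (hlam : lam ≠ 0) (hL : uu lam ∈ L) {u : ↥L}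
    (hu : ((u : SL2) : M2).trace = 2) :
    ∃ k : ↥L, k * u * k⁻¹ ∈ cent (⟨uu lam, hL⟩ : ↥L) := by
  have h2 := two_ne_zero_of_odd (K := K) p hp
  obtain ⟨y, hy⟩ : ∃ y : ↥L, y = ⟨uu lam, hL⟩ := ⟨_, rfl⟩
  rw [← hy]
  have hyp : y ^ p = 1 := by
    apply Subtype.ext
    rw [Subgroup.coe_pow, Subgroup.coe_one, hy]
    apply (Cfsg.Agent.Lib.H8.SL2Odd.pow_char_eq_one_iff_trace p h2 _).2
    rw [trace_eq, uu_00, uu_11]; norm_num
  have hup : u ^ p = 1 := by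
    apply Subtype.ext
    rw [Subgroup.coe_pow, Subgroup.coe_one]
    exact (Cfsg.Agent.Lib.H8.SL2Odd.pow_char_eq_one_iff_trace p h2 _).2 hu
  obtain ⟨P, hP⟩ := (isPGroup_zpowers_of_pow p hyp).exists_le_sylow
  obtain ⟨Q, hQ⟩ := (isPGroup_zpowers_of_pow p hup).exists_le_sylow
  obtain ⟨g, hg⟩ := MulAction.exists_smul_eq ↥L Q P
  have hyP : y ∈ (P : Subgroup ↥L) := hP (Subgroup.mem_zpowers y)
  have huQ : u ∈ (Q : Subgroup ↥L) := hQ (Subgroup.mem_zpowers u)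
  have hu'P : g * u * g⁻¹ ∈ (P : Subgroup ↥L) := by
    rw [← hg, Sylow.coe_subgroup_smul]
    have := Subgroup.smul_mem_pointwise_smul u (MulAut.conj g) (Q : Subgroup ↥L) huQ
    rwa [MulAut.smul_def, MulAut.conj_apply] at this
  refine ⟨g, ?_⟩
  -- the center of `P`
  have hy1 : y ≠ 1 := by
    intro h
    have h3 := congrArg (fun z : ↥L => ((z : SL2) : M2) 0 1) h
    rw [hy] at h3
    simp only [uu_01, Subgroup.coe_one, Matrix.SpecialLinearGroup.coe_one] at h3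
    rw [Matrix.one_apply_ne (by decide)] at h3
    exact hlam h3
  have : Nontrivial ↥(P : Subgroup ↥L) := ⟨⟨⟨y, hyP⟩, 1, fun h => hy1 (congrArg Subtype.val h)⟩⟩
  have hcen := IsPGroup.bot_lt_center (P.isPGroup')
  obtain ⟨c, hcC, hc1⟩ := SetLike.exists_of_lt hcen
  rw [Subgroup.mem_bot] at hc1
  obtain ⟨k, hk⟩ := P.isPGroup' c
  have hcZ : (c : ↥L) ∉ ZL L := by
    intro h
    have hk' : ((c : ↥L) : SL2) ^ (p ^ k) = 1 := by
      have h3 := congrArg (fun z : ↥(P : Subgroup ↥L) => ((z : ↥L) : SL2)) hk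
      simpa using h3
    rcases (mem_ZL_iff L _).1 h with h | h
    · exact hc1 (Subtype.ext (Subtype.ext h))
    · exact ne_neg_one_of_pow p hp hk' h
  rw [Subgroup.mem_center_iff] at hcC
  have e1 : y * (c : ↥L) = (c : ↥L) * y := congrArg Subtype.val (hcC ⟨y, hyP⟩)
  have e2 : g * u * g⁻¹ * (c : ↥L) = (c : ↥L) * (g * u * g⁻¹) :=
    congrArg Subtype.val (hcC ⟨g * u * g⁻¹, hu'P⟩)
  rw [mem_cent]
  exact (caz L).ca _ hcZ _ _ e2 e1

theorem tor_or [Finite K] (hp : p ≠ 2) {lam : K} (hlam : lam ≠ 0) (hL : uu lam ∈ L) (x : ↥L)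
    (hxZ : x ∉ ZL L) : x ∈ cl (ZL L) (⟨uu lam, hL⟩ : ↥L) ∨ tor L x := by
  by_cases hx : tor L x
  · exact Or.inr hx
  left
  unfold tor at hx
  rw [not_not] at hx
  have hsq : (((x : SL2) : M2).trace - 2) * (((x : SL2) : M2).trace + 2) = 0 := by
    linear_combination hx
  refine ⟨hxZ, ?_⟩
  rcases mul_eq_zero.1 hsq with h | h
  · exact unip_conj p hp hlam hL (sub_eq_zero.1 h)
  · have ht : ((x : SL2) : M2).trace = -2 := by linear_combination h
    have hneg := neg_one_mem_of_trace p hp x.2 ht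
    have hwZ : (⟨-1, hneg⟩ : ↥L) ∈ ZL L := by rw [mem_ZL_iff]; right; rfl
    have hu : (((⟨-1, hneg⟩ * x : ↥L) : SL2) : M2).trace = 2 := by
      rw [Subgroup.coe_mul]
      show (((-1 : SL2) * (x : SL2) : SL2) : M2).trace = 2
      rw [neg_one_mul, Matrix.SpecialLinearGroup.coe_neg, Matrix.trace_neg, ht, neg_neg]
    obtain ⟨k, hk⟩ := unip_conj p hp hlam hL hu
    refine ⟨k, ?_⟩
    have hcomm := (caz L).central _ hwZ
    have e : k * x * k⁻¹ = ⟨-1, hneg⟩ * (k * (⟨-1, hneg⟩ * x) * k⁻¹) := by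
      have hsq1 : (⟨-1, hneg⟩ : ↥L) * ⟨-1, hneg⟩ = 1 := by
        apply Subtype.ext
        show (-1 : SL2) * (-1) = 1
        simp
      calc k * x * k⁻¹ = (⟨-1, hneg⟩ * ⟨-1, hneg⟩) * (k * x * k⁻¹) := by rw [hsq1, one_mul]
        _ = ⟨-1, hneg⟩ * (⟨-1, hneg⟩ * k) * x * k⁻¹ := by group
        _ = ⟨-1, hneg⟩ * (k * ⟨-1, hneg⟩) * x * k⁻¹ := by rw [hcomm k]
        _ = ⟨-1, hneg⟩ * (k * (⟨-1, hneg⟩ * x) * k⁻¹) := by group
    rw [e]
    exact Subgroup.mul_mem _ ((caz L).le_cent _ hwZ) hk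

end charp

end Cfsg.Agent.Lib.H4.Dickson
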