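import Mathlib
import Cfsg.Agent.Lib.H4.Dickson.SL2Tor2

/-!
# The diagonal torus of the upper triangular part, and the `Setup`
-/

set_option autoImplicit false

namespace Cfsg.Agent.Lib.H4.Dickson

open Matrix Cfsg.Agent.Lib.H12

variable {K : Type*} [Field K]

local notation "SL2" => Matrix.SpecialLinearGroup (Fin 2) K
local notation "M2" => Matrix (Fin 2) (Fin 2) K

variable {L : Subgroup (Matrix.SpecialLinearGroup (Fin 2) K)}

section charp

variable (p : ℕ) [Fact p.Prime] [CharP K p]

theorem card_RR_eq [Finite K] (hp : p ≠ 2) {lam : K} (hlam : lam ≠ 0) (hL : uu lam ∈ L) :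
    Nat.card (RR L) = Nat.card (ZL L) * Nat.card (chiSq L).range := by
  have h1 := Subgroup.card_mul_index (chiSq L).ker
  rw [Subgroup.index_ker, chiSq_ker hlam hL,
    Nat.card_congr (Subgroup.subgroupOfEquivOfLe (cent_uu_le_SS hlam hL)).toEquiv,
    card_cent_uu p hp hlam hL, card_SS] at h1
  have hq : 0 < Nat.card (AA L) := Nat.card_pos
  apply Nat.eq_of_mul_eq_mul_left hq
  rw [← h1]; ring

/-- if the diagonal group is bigger than the center, there is a torus of that order -/
theorem exists_T [Finite K] (hp : p ≠ 2) {lam : K} (hlam : lam ≠ 0) (hL : uu lam ∈ L)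
    (hlt : Nat.card (ZL L) < Nat.card (RR L)) :
    ∃ n₀ : ↥L, tor L n₀ ∧ Nat.card (cent n₀) = Nat.card (RR L) := by
  have hcyc : IsCyclic ↥(RR L) := inferInstance
  obtain ⟨t₀, ht₀⟩ := hcyc.exists_generator
  obtain ⟨g₀, hg₀⟩ : ∃ g₀ : ↥(SS L), chi L g₀ = (t₀ : Kˣ) := t₀.2
  -- `t₀ ^ 2 ≠ 1`
  have hsq : en L (g₀ : ↥L) 0 0 ^ 2 ≠ 1 := by
    intro h
    have hbot : (chiSq L).range = ⊥ := by
      rw [eq_bot_iff]
      rintro _ ⟨g, rfl⟩
      rw [Subgroup.mem_bot]
      have hg : (⟨chi L g, g, rfl⟩ : ↥(RR L)) ∈ Subgroup.zpowers t₀ := ht₀ _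
      obtain ⟨n, hn⟩ := Subgroup.mem_zpowers_iff.1 hg
      have hn' : chi L g = (t₀ : Kˣ) ^ n := by
        have := congrArg Subtype.val hn
        rw [Subgroup.coe_zpow] at this
        exact this.symm
      show chi L g ^ 2 = 1
      rw [hn', ← hg₀, ← zpow_natCast, ← _root_.zpow_mul, mul_comm, _root_.zpow_mul, zpow_natCast]
      have : chi L g₀ ^ 2 = 1 := by
        apply Units.ext
        rw [Units.val_pow_eq_pow_val, chi_val, Units.val_one]
        exact h
      rw [this, _root_.one_zpow]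
    have := card_RR_eq p hp hlam hL
    rw [hbot, Subgroup.card_bot, mul_one] at this
    omega
  have h10 : en L (g₀ : ↥L) 1 0 = 0 := g₀.2
  have hd := diag_of_upper h10
  have hne : en L (g₀ : ↥L) 0 0 ≠ en L (g₀ : ↥L) 1 1 := by
    intro h
    apply hsq
    rw [pow_two]
    nth_rewrite 2 [h]
    exact hd
  refine ⟨(g₀ : ↥L), ?_, ?_⟩
  · unfold tor
    rw [trace_en]
    intro h
    apply hne
    have h3 : (en L (g₀ : ↥L) 0 0 - en L (g₀ : ↥L) 1 1) ^ 2 = 0 := by
      linear_combination h - 4 * hd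
    exact sub_eq_zero.1 ((pow_eq_zero_iff (two_ne_zero)).1 h3)
  · -- `cent g₀ ≤ SS L`
    have hle : cent (g₀ : ↥L) ≤ SS L := by
      intro x hx
      rw [mem_cent] at hx
      have e := congrArg (fun z => en L z 1 0) hx
      simp only [en_mul_10, h10] at e
      rw [mem_SS]
      have : en L x 1 0 * (en L (g₀ : ↥L) 0 0 - en L (g₀ : ↥L) 1 1) = 0 := by
        linear_combination e
      rcases mul_eq_zero.1 this with h | h
      · exact h
      · exact absurd (sub_eq_zero.1 h) hne
    have hbij : Function.Bijective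
        (((chi L).rangeRestrict).comp (Subgroup.inclusion hle)) := by
      constructor
      · rw [injective_iff_map_eq_one]
        intro x hx
        have hx1 : chi L (Subgroup.inclusion hle x) = 1 := congrArg Subtype.val hx
        have h00 : en L (x : ↥L) 0 0 = 1 := congrArg Units.val hx1
        have hx10 : en L (x : ↥L) 1 0 = 0 := hle x.2
        have hxu := coe_eq_uu hx10 h00
        by_cases hc : en L (x : ↥L) 0 1 = 0
        · apply Subtype.ext
          apply Subtype.ext
          rw [hxu, hc, uu_zero]; rfl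
        · exfalso
          have hcomm : ((g₀ : ↥L) : SL2) * uu (en L (x : ↥L) 0 1) =
              uu (en L (x : ↥L) 0 1) * ((g₀ : ↥L) : SL2) := by
            rw [← hxu]
            exact (mem_cent_coe.1 x.2).symm
          exact hne ((commute_uu_iff hc _).1 hcomm).2
      · rintro ⟨t, ht⟩
        have hg : (⟨t, ht⟩ : ↥(RR L)) ∈ Subgroup.zpowers t₀ := ht₀ _
        obtain ⟨n, hn⟩ := Subgroup.mem_zpowers_iff.1 hg
        have hmem : (g₀ : ↥L) ^ n ∈ cent (g₀ : ↥L) :=
          Subgroup.zpow_mem _ (self_mem_cent _) n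
        refine ⟨⟨_, hmem⟩, ?_⟩
        apply Subtype.ext
        show chi L (Subgroup.inclusion hle ⟨(g₀ : ↥L) ^ n, hmem⟩) = t
        have e : Subgroup.inclusion hle ⟨(g₀ : ↥L) ^ n, hmem⟩ = g₀ ^ n := by
          apply Subtype.ext
          rw [Subgroup.coe_zpow]; rfl
        rw [e, map_zpow, hg₀]
        have := congrArg Subtype.val hn
        rw [Subgroup.coe_zpow] at this
        exact this
    exact Nat.card_congr (Equiv.ofBijective _ hbij)

end charp

end Cfsg.Agent.Lib.H4.Dickson
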