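import Mathlib
import Cfsg.Agent.Lib.H4.Dickson.SL2Tor3

/-!
# The class equation dichotomy for subgroups of `SL₂(K)` containing `uu lam` and `ll mu`
-/

set_option autoImplicit false

namespace Cfsg.Agent.Lib.H4.Dickson

open Matrix Cfsg.Agent.Lib.H12

variable {K : Type*} [Field K]

local notation "SL2" => Matrix.SpecialLinearGroup (Fin 2) K
local notation "M2" => Matrix (Fin 2) (Fin 2) K

variable {L : Subgroup (Matrix.SpecialLinearGroup (Fin 2) K)}

section charp

variable (p : ℕ) [Fact p.Prime] [CharP K p]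

theorem uu_not_mem_ZL {lam : K} (hlam : lam ≠ 0) (hL : uu lam ∈ L) :
    (⟨uu lam, hL⟩ : ↥L) ∉ ZL L := by
  intro h
  have := (en_of_mem_ZL h).1
  rw [en_uu_mk, uu_01] at this
  exact hlam this

theorem setup [Finite K] (hp : p ≠ 2) {lam mu : K} (hlam : lam ≠ 0) (hL : uu lam ∈ L)
    (hmu : mu ≠ 0) (hM : ll mu ∈ L) :
    Setup (ZL L) (⟨uu lam, hL⟩ : ↥L) (Nat.card (AA L)) (Nat.card (RR L)) (tor L) where
  caz := caz L
  hy := uu_not_mem_ZL hlam hL
  hq := (card_AA_ge p hp hlam hL).1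
  hqodd := (card_AA_ge p hp hlam hL).2
  card_cent_y := card_cent_uu p hp hlam hL
  card_S := by rw [normalizer_cent_uu hlam hL, card_SS]
  z_dvd_r := card_ZL_dvd
  r_le := card_RR_le p hp hlam hL
  S_ne_top := by
    rw [normalizer_cent_uu hlam hL]
    intro h
    have h1 : (⟨ll mu, hM⟩ : ↥L) ∈ SS L := by rw [h]; exact Subgroup.mem_top _
    rw [mem_SS] at h1
    exact hmu h1
  tor_or := tor_or p hp hlam hL
  tor_not := fun x hx => tor_not_cl hlam hL hx
  tor_norm := fun x hx => tor_norm (two_ne_zero_of_odd (K := K) p hp) hx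
  tor_cop := fun x hx => tor_cop p hp hx
  exists_T := exists_T p hp hlam hL

theorem dichotomy [Finite K] (hp : p ≠ 2) {lam mu : K} (hlam : lam ≠ 0) (hL : uu lam ∈ L)
    (hmu : mu ≠ 0) (hM : ll mu ∈ L) :
    (SS L).index = 1 + Nat.card (AA L) ∨
      (Nat.card (AA L) = 3 ∧ Nat.card (RR L) = 2 * Nat.card (ZL L) ∧ (SS L).index = 10) := by
  have := (setup p hp hlam hL hmu hM).main
  rwa [normalizer_cent_uu hlam hL] at this

end charp

end Cfsg.Agent.Lib.H4.Dickson
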