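import Mathlib
import Cfsg.Agent.Lib.H4.Dickson.SL2Main

/-!
# The generic case: `|L : S| = 1 + q`
-/

set_option autoImplicit false

namespace Cfsg.Agent.Lib.H4.Dickson

open Matrix Cfsg.Agent.Lib.H12

variable {K : Type*} [Field K]

local notation "SL2" => Matrix.SpecialLinearGroup (Fin 2) K
local notation "M2" => Matrix (Fin 2) (Fin 2) K

variable {L : Subgroup (Matrix.SpecialLinearGroup (Fin 2) K)}

/-- two elements are in the same coset of the upper triangular part iff their first columns are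
proportional -/
theorem coset_iff (g h : ↥L) :
    g⁻¹ * h ∈ SS L ↔ en L g 0 0 * en L h 1 0 = en L g 1 0 * en L h 0 0 := by
  rw [mem_SS, en_mul_10, en_inv_10, en_inv_11]
  constructor
  · intro e; linear_combination e
  · intro e; linear_combination e

theorem quot_eq_iff (g h : ↥L) :
    (QuotientGroup.mk g : ↥L ⧸ SS L) = QuotientGroup.mk h ↔
      en L g 0 0 * en L h 1 0 = en L g 1 0 * en L h 0 0 := by
  rw [QuotientGroup.eq, coset_iff]

section charp

variable (p : ℕ) [Fact p.Prime] [CharP K p]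

/-- halving in an additive subgroup, odd characteristic -/
theorem mem_of_two_mul_mem (hp : p ≠ 2) (A : AddSubgroup K) {c : K} (hc : 2 * c ∈ A) : c ∈ A := by
  obtain ⟨k, hk⟩ := (Fact.out : p.Prime).odd_of_ne_two hp
  have h1 := A.nsmul_mem hc (k + 1)
  have e : (k + 1) • (2 * c) = c := by
    rw [nsmul_eq_mul]
    have hp0 : ((p : ℕ) : K) = 0 := CharP.cast_eq_zero K p
    rw [hk] at hp0
    push_cast at hp0 ⊢
    linear_combination c * hp0
  rwa [e] at h1

end charp

/-- in the generic case, differences of inverses of elements of `B` lie in `A` -/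
theorem inv_sub_inv_mem [Finite K] (hidx : (SS L).index = 1 + Nat.card (AA L)) {b b' : K}
    (hb : b ≠ 0) (hb' : b' ≠ 0) (hB : ll b ∈ L) (hB' : ll b' ∈ L) : b'⁻¹ - b⁻¹ ∈ AA L := by
  -- the coset representatives
  obtain ⟨f, hf⟩ : ∃ f : Option ↥(AA L) → ↥L ⧸ SS L, f = fun o =>
      match o with
      | none => QuotientGroup.mk (1 : ↥L)
      | some a => QuotientGroup.mk ((⟨uu (a : K), (mem_AA L).1 a.2⟩ : ↥L) * ⟨ll b, hB⟩) := ⟨_, rfl⟩
  have e00 : ∀ a : ↥(AA L), en L ((⟨uu (a : K), (mem_AA L).1 a.2⟩ : ↥L) * ⟨ll b, hB⟩) 0 0 =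
      1 + a * b := by
    intro a
    rw [en_mul_00]
    show ((uu (a : K) : SL2) : M2) 0 0 * ((ll b : SL2) : M2) 0 0 +
      ((uu (a : K) : SL2) : M2) 0 1 * ((ll b : SL2) : M2) 1 0 = _
    simp
  have e10 : ∀ a : ↥(AA L), en L ((⟨uu (a : K), (mem_AA L).1 a.2⟩ : ↥L) * ⟨ll b, hB⟩) 1 0 = b := by
    intro a
    rw [en_mul_10]
    show ((uu (a : K) : SL2) : M2) 1 0 * ((ll b : SL2) : M2) 0 0 +
      ((uu (a : K) : SL2) : M2) 1 1 * ((ll b : SL2) : M2) 1 0 = _
    simp
  have hinj : Function.Injective f := by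
    intro o o' h
    rw [hf] at h
    rcases o with _ | a <;> rcases o' with _ | a'
    · rfl
    · exfalso
      simp only at h
      rw [quot_eq_iff, e10, e00, en_one_00, en_one_10] at h
      apply hb
      linear_combination h
    · exfalso
      simp only at h
      rw [quot_eq_iff, e10, e00, en_one_00, en_one_10] at h
      apply hb
      linear_combination -h
    · simp only at h
      rw [quot_eq_iff, e10, e00, e10, e00] at h
      have : b ^ 2 * ((a : K) - (a' : K)) = 0 := by linear_combination h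
      rcases mul_eq_zero.1 this with h1 | h1
      · exact absurd ((pow_eq_zero_iff (two_ne_zero)).1 h1) hb
      · congr 1
        exact Subtype.ext (sub_eq_zero.1 h1)
  have hcard : Nat.card (↥L ⧸ SS L) ≤ Nat.card (Option ↥(AA L)) := by
    rw [Finite.card_option, ← Subgroup.index_eq_card, hidx]; omega
  have hsurj := (hinj.bijective_of_nat_card_le hcard).2
  obtain ⟨o, ho⟩ := hsurj (QuotientGroup.mk (⟨ll b', hB'⟩ : ↥L))
  rw [hf] at ho
  rcases o with _ | a
  · exfalso
    simp only at ho
    rw [quot_eq_iff, en_one_00, en_one_10] at ho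
    apply hb'
    have : en L (⟨ll b', hB'⟩ : ↥L) 1 0 = b' := rfl
    rw [this] at ho
    linear_combination ho
  · simp only at ho
    rw [quot_eq_iff, e10, e00] at ho
    have h1 : en L (⟨ll b', hB'⟩ : ↥L) 1 0 = b' := rfl
    have h0 : en L (⟨ll b', hB'⟩ : ↥L) 0 0 = 1 := rfl
    rw [h1, h0] at ho
    have : b'⁻¹ - b⁻¹ = (a : K) := by
      field_simp
      linear_combination -ho
    rw [this]
    exact a.2

end Cfsg.Agent.Lib.H4.Dickson
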