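import Mathlib
import Cfsg.Agent.Lib.H4.Dickson.NonExc

/-!
# Generation of `SL₂` by elementary matrices, and the Weyl element
-/

set_option autoImplicit false

namespace Cfsg.Agent.Lib.H4.Dickson

open Matrix Cfsg.Agent.Lib.H12

variable {K : Type*} [Field K]

local notation "SL2" => Matrix.SpecialLinearGroup (Fin 2) K
local notation "M2" => Matrix (Fin 2) (Fin 2) K

/-- the monomial element `[[0, -b⁻¹], [b, 0]]` -/
def nn (b : K) : SL2 := ll b * uu (-b⁻¹) * ll b

theorem nn_00 {b : K} (hb : b ≠ 0) : ((nn b : SL2) : M2) 0 0 = 0 := by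
  simp only [nn, mul_apply_00, mul_apply_01, uu_00, uu_01, uu_10, uu_11, ll_00, ll_01, ll_10, ll_11]
  field_simp
  ring
theorem nn_01 (b : K) : ((nn b : SL2) : M2) 0 1 = -b⁻¹ := by
  simp only [nn, mul_apply_00, mul_apply_01, uu_00, uu_01, uu_10, uu_11, ll_00, ll_01, ll_10, ll_11]
  ring
theorem nn_10 {b : K} (hb : b ≠ 0) : ((nn b : SL2) : M2) 1 0 = b := by
  simp only [nn, mul_apply_10, mul_apply_11, mul_apply_00, mul_apply_01, uu_00, uu_01, uu_10, uu_11,
    ll_00, ll_01, ll_10, ll_11]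
  field_simp
  ring
theorem nn_11 {b : K} (hb : b ≠ 0) : ((nn b : SL2) : M2) 1 1 = 0 := by
  simp only [nn, mul_apply_10, mul_apply_11, mul_apply_00, mul_apply_01, uu_00, uu_01, uu_10, uu_11,
    ll_00, ll_01, ll_10, ll_11]
  field_simp
  ring

theorem nn_conj_uu {b : K} (hb : b ≠ 0) (a : K) : nn b * uu a * (nn b)⁻¹ = ll (-a * b ^ 2) := by
  apply sl2_ext <;>
    simp only [mul_apply_00, mul_apply_01, mul_apply_10, mul_apply_11, inv_apply_00, inv_apply_01,
      inv_apply_10, inv_apply_11, nn_00 hb, nn_01, nn_10 hb, nn_11 hb, uu_00, uu_01, uu_10, uu_11,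
      ll_00, ll_01, ll_10, ll_11]
  · field_simp
    ring
  · ring
  · ring
  · field_simp
    ring

theorem nn_conj_ll {b : K} (hb : b ≠ 0) (c : K) : nn b * ll c * (nn b)⁻¹ = uu (-c / b ^ 2) := by
  apply sl2_ext <;>
    simp only [mul_apply_00, mul_apply_01, mul_apply_10, mul_apply_11, inv_apply_00, inv_apply_01,
      inv_apply_10, inv_apply_11, nn_00 hb, nn_01, nn_10 hb, nn_11 hb, uu_00, uu_01, uu_10, uu_11,
      ll_00, ll_01, ll_10, ll_11]
  · field_simp
    ring
  · field_simp
    ring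
  · ring
  · field_simp
    ring

/-- the diagonal matrix as a word -/
theorem diag_word {a : K} (ha : a ≠ 0) :
    ((uu a * ll (-a⁻¹) * uu a * (uu 1 * ll (-1) * uu 1)⁻¹ : SL2) : M2) 1 0 = 0 ∧
    ((uu a * ll (-a⁻¹) * uu a * (uu 1 * ll (-1) * uu 1)⁻¹ : SL2) : M2) 0 0 = a := by
  constructor <;>
    simp only [mul_apply_00, mul_apply_01, mul_apply_10, mul_apply_11, inv_apply_00, inv_apply_01,
      inv_apply_10, inv_apply_11, uu_00, uu_01, uu_10, uu_11, ll_00, ll_01, ll_10, ll_11]
  · field_simp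
    ring
  · field_simp
    ring

/-- `SL₂` is generated by the elementary matrices -/
theorem eq_top_of_all {L : Subgroup SL2} (hA : ∀ a : K, uu a ∈ L) (hB : ∀ b : K, ll b ∈ L) :
    L = ⊤ := by
  have key : ∀ g : SL2, (g : M2) 1 0 ≠ 0 → g ∈ L := by
    intro g hc
    have e : g = uu (((g : M2) 0 0 - 1) / (g : M2) 1 0) * ll ((g : M2) 1 0) *
        uu (((g : M2) 1 1 - 1) / (g : M2) 1 0) := by
      have hd := det_eq g
      apply sl2_ext <;>
        simp only [mul_apply_00, mul_apply_01, mul_apply_10, mul_apply_11, uu_00, uu_01, uu_10,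
          uu_11, ll_00, ll_01, ll_10, ll_11]
      · field_simp
        ring
      · field_simp
        linear_combination (-1 : K) * hd
      · ring
      · field_simp
        ring
    rw [e]
    exact L.mul_mem (L.mul_mem (hA _) (hB _)) (hA _)
  rw [eq_top_iff]
  intro g _
  by_cases hc : (g : M2) 1 0 = 0
  · have h00 : (g : M2) 0 0 ≠ 0 := by
      intro h
      have hd := det_eq g
      rw [h, hc] at hd
      simp at hd
    have h1 : ll 1 * g ∈ L := by
      apply key
      rw [mul_apply_10, ll_10, ll_11, hc]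
      simpa using h00
    have h2 : g = (ll 1)⁻¹ * (ll 1 * g) := by group
    rw [h2]
    exact L.mul_mem (L.inv_mem (hB 1)) h1
  · exact key g hc

end Cfsg.Agent.Lib.H4.Dickson
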