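import Mathlib
import Cfsg.Agent.Lib.H4.Dickson.SL2Gen

/-!
# The generic case: `L` is all of `SL₂`
-/

set_option autoImplicit false

namespace Cfsg.Agent.Lib.H4.Dickson

open Matrix Cfsg.Agent.Lib.H12

variable {K : Type*} [Field K]

local notation "SL2" => Matrix.SpecialLinearGroup (Fin 2) K
local notation "M2" => Matrix (Fin 2) (Fin 2) K

variable {L : Subgroup (Matrix.SpecialLinearGroup (Fin 2) K)}

section charp

variable (p : ℕ) [Fact p.Prime] [CharP K p]

/-- in the generic case, inverses of elements of `B` lie in `A` -/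
theorem inv_mem_AA [Finite K] (hp : p ≠ 2) (hidx : (SS L).index = 1 + Nat.card (AA L)) {b : K}
    (hb : b ≠ 0) (hB : ll b ∈ L) : b⁻¹ ∈ AA L := by
  have hB' : ll (-b) ∈ L := (mem_BB L).1 ((BB L).neg_mem hB)
  have h1 := inv_sub_inv_mem hidx hb (neg_ne_zero.2 hb) hB hB'
  have h2 : 2 * (-b⁻¹) ∈ AA L := by
    have e : (-b)⁻¹ - b⁻¹ = 2 * (-b⁻¹) := by rw [inv_neg]; ring
    rwa [e] at h1
  have h3 := mem_of_two_mul_mem p hp (AA L) h2
  have := (AA L).neg_mem h3
  rwa [neg_neg] at this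

/-- the generic case with `ll 1 ∈ L`: `A` is a subfield, and `L` is everything as soon as `A` is. -/
theorem eq_top_of_generic [Finite K] (hp : p ≠ 2) (hidx : (SS L).index = 1 + Nat.card (AA L))
    {lam : K} (hL : uu lam ∈ L) (h1 : ll 1 ∈ L)
    (hgen : Subfield.closure ({lam} : Set K) = ⊤) : L = ⊤ := by
  have one_ne : (1 : K) ≠ 0 := one_ne_zero
  -- `1 ∈ A`
  have hA1 : (1 : K) ∈ AA L := by
    have := inv_mem_AA p hp hidx one_ne h1
    rwa [inv_one] at this
  have hu1 : uu (1 : K) ∈ L := hA1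
  have hun1 : uu (-1 : K) ∈ L := (mem_AA L).1 ((AA L).neg_mem hA1)
  have hln1 : ll (-1 : K) ∈ L := (mem_BB L).1 ((BB L).neg_mem h1)
  -- the Weyl element
  have hw : nn (1 : K) ∈ L := by
    unfold nn
    rw [inv_one]
    exact L.mul_mem (L.mul_mem h1 hun1) h1
  have hAB : ∀ a : K, a ∈ AA L → a ∈ BB L := by
    intro a ha
    have h2 : nn (1 : K) * uu a * (nn 1)⁻¹ ∈ L := L.mul_mem (L.mul_mem hw ha) (L.inv_mem hw)
    rw [nn_conj_uu one_ne] at h2
    have h3 : -a ∈ BB L := by
      rw [mem_BB]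
      convert h2 using 2
      ring
    have := (BB L).neg_mem h3
    rwa [neg_neg] at this
  have hBA : ∀ b : K, b ∈ BB L → b ∈ AA L := by
    intro b hb
    have h2 : nn (1 : K) * ll b * (nn 1)⁻¹ ∈ L := L.mul_mem (L.mul_mem hw hb) (L.inv_mem hw)
    rw [nn_conj_ll one_ne] at h2
    have h3 : -b ∈ AA L := by
      rw [mem_AA]
      convert h2 using 2
      ring
    have := (AA L).neg_mem h3
    rwa [neg_neg] at this
  have hinv : ∀ a : K, a ∈ AA L → a⁻¹ ∈ AA L := by
    intro a ha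
    by_cases h0 : a = 0
    · rw [h0, _root_.inv_zero]; exact (AA L).zero_mem
    · exact inv_mem_AA p hp hidx h0 (hAB a ha)
  have hsq : ∀ a c : K, a ∈ AA L → c ∈ AA L → a ^ 2 * c ∈ AA L := by
    intro a c ha hc
    by_cases h0 : a = 0
    · rw [h0]; simp [(AA L).zero_mem]
    · have hai : ll (-a⁻¹) ∈ L := (mem_BB L).1 ((BB L).neg_mem (hAB _ (hinv a ha)))
      obtain ⟨D, hD⟩ : ∃ D : SL2, D = uu a * ll (-a⁻¹) * uu a * (uu 1 * ll (-1) * uu 1)⁻¹ :=
        ⟨_, rfl⟩
      have hDL : D ∈ L := by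
        rw [hD]
        exact L.mul_mem (L.mul_mem (L.mul_mem ha hai) ha)
          (L.inv_mem (L.mul_mem (L.mul_mem hu1 hln1) hu1))
      obtain ⟨hD10, hD00⟩ := diag_word h0
      rw [← hD] at hD10 hD00
      have h2 : D * uu c * D⁻¹ ∈ L := L.mul_mem (L.mul_mem hDL hc) (L.inv_mem hDL)
      rw [conj_uu_of_upper hD10, hD00] at h2
      exact h2
  have hmul : ∀ a c : K, a ∈ AA L → c ∈ AA L → a * c ∈ AA L := by
    intro a c ha hc
    apply mem_of_two_mul_mem p hp
    have h2 := hsq (a + 1) c ((AA L).add_mem ha hA1) hc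
    have h3 := hsq a c ha hc
    have h4 := (AA L).sub_mem ((AA L).sub_mem h2 h3) hc
    convert h4 using 1
    ring
  -- the subfield
  let S : Subfield K :=
    { carrier := AA L
      mul_mem' := fun {a b} ha hb => hmul a b ha hb
      one_mem' := hA1
      add_mem' := fun {a b} ha hb => (AA L).add_mem ha hb
      zero_mem' := (AA L).zero_mem
      neg_mem' := fun {a} ha => (AA L).neg_mem ha
      inv_mem' := fun a ha => hinv a ha }
  have hS : Subfield.closure ({lam} : Set K) ≤ S := by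
    rw [Subfield.closure_le]
    intro x hx
    rw [Set.mem_singleton_iff] at hx
    rw [hx]
    exact hL
  rw [hgen] at hS
  have hall : ∀ a : K, a ∈ AA L := fun a => hS (Subfield.mem_top a)
  exact eq_top_of_all hall (fun b => hAB b (hall b))

end charp

end Cfsg.Agent.Lib.H4.Dickson
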