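import Mathlib
import Cfsg.Agent.Lib.H4.Dickson.NonExc2

/-!
# The exceptional case: `q = 3`, `|L : S| = 10`
-/

set_option autoImplicit false

namespace Cfsg.Agent.Lib.H4.Dickson

open Matrix Cfsg.Agent.Lib.H12

variable {K : Type*} [Field K]

local notation "SL2" => Matrix.SpecialLinearGroup (Fin 2) K
local notation "M2" => Matrix (Fin 2) (Fin 2) K

variable {L : Subgroup (Matrix.SpecialLinearGroup (Fin 2) K)}

/-- the `(1,0)` entry of a conjugate of `ll b` -/
theorem conj_ll_10 (h : SL2) (b : K) :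
    ((h * ll b * h⁻¹ : SL2) : M2) 1 0 = b * (h : M2) 1 1 ^ 2 := by
  simp only [mul_apply_10, mul_apply_11, inv_apply_00, inv_apply_10, ll_00, ll_01, ll_10, ll_11]
  ring

theorem three_eq_zero [CharP K 3] : (3 : K) = 0 := by
  have := CharP.cast_eq_zero K 3
  exact_mod_cast this

/-- the prime field coefficients -/
noncomputable def cc (K : Type*) [Field K] [CharP K 3] : ZMod 3 →+* K := ZMod.castHom (dvd_refl 3) K

theorem cc_cases [CharP K 3] (k : ZMod 3) : cc K k = 0 ∨ cc K k = 1 ∨ cc K k = -1 := by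
  fin_cases k
  · left; exact map_zero _
  · right; left; exact map_one _
  · right; right
    have : ((2 : ZMod 3)) = -1 := by decide
    show cc K (2 : ZMod 3) = -1
    rw [this, map_neg, map_one]

theorem cc_mul_mem [CharP K 3] (A : AddSubgroup K) {a : K} (ha : a ∈ A) (k : ZMod 3) :
    cc K k * a ∈ A := by
  rcases cc_cases (K := K) k with h | h | h <;> rw [h]
  · rw [zero_mul]; exact A.zero_mem
  · rw [one_mul]; exact ha
  · rw [neg_one_mul]; exact A.neg_mem ha

/-- if `q = 3`, the group `A` is `{0, lam, -lam}` -/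
theorem AA_cases [CharP K 3] [Finite K] (hq : Nat.card (AA L) = 3) {lam : K} (hlam : lam ≠ 0)
    (hL : uu lam ∈ L) {a : K} (ha : a ∈ AA L) : a = 0 ∨ a = lam ∨ a = -lam := by
  classical
  have h2 : (2 : K) ≠ 0 := two_ne_zero_of_odd (K := K) 3 (by norm_num)
  have hne : lam ≠ -lam := by
    intro h
    have : 2 * lam = 0 := by linear_combination h
    rcases mul_eq_zero.1 this with h' | h'
    · exact h2 h'
    · exact hlam h'
  have hsub : ((({0, lam, -lam} : Finset K)) : Set K) ⊆ ((AA L : AddSubgroup K) : Set K) := by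
    intro x hx
    simp only [Finset.coe_insert, Finset.coe_singleton, Set.mem_insert_iff,
      Set.mem_singleton_iff] at hx
    rcases hx with rfl | rfl | rfl
    · exact (AA L).zero_mem
    · exact hL
    · exact (AA L).neg_mem hL
  have hcard : ({0, lam, -lam} : Finset K).card = 3 := by
    rw [Finset.card_insert_of_notMem, Finset.card_insert_of_notMem, Finset.card_singleton]
    · simpa using hne
    · simp only [Finset.mem_insert, Finset.mem_singleton, not_or]
      exact ⟨fun h => hlam h.symm, fun h => hlam (neg_eq_zero.1 h.symm)⟩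
  have heq := Set.eq_of_subset_of_ncard_le hsub (by
    rw [Set.ncard_coe_finset, hcard, ← Nat.card_coe_set_eq]
    exact hq.le) (Set.toFinite _)
  have : a ∈ ((({0, lam, -lam} : Finset K)) : Set K) := by rw [heq]; exact ha
  simpa using this

section exc

variable [CharP K 3] [Finite K]

/-- in the exceptional case there is an element of `L` sending `∞` to `0` -/
theorem exists_en00_zero (hidx : (SS L).index = 10) {mu : K} (hmu : mu ≠ 0) (hM : ll mu ∈ L) :
    ∃ g : ↥L, en L g 0 0 = 0 := by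
  have h2 : (2 : K) ≠ 0 := two_ne_zero_of_odd (K := K) 3 (by norm_num)
  obtain ⟨v, hv⟩ : ∃ v : ↥L, v = ⟨ll mu, hM⟩ := ⟨_, rfl⟩
  have hv3 : v ^ 3 = 1 := by
    apply Subtype.ext
    rw [Subgroup.coe_pow, Subgroup.coe_one, hv]
    apply (Cfsg.Agent.Lib.H8.SL2Odd.pow_char_eq_one_iff_trace 3 h2 _).2
    rw [trace_eq, ll_00, ll_11]; norm_num
  have hP : IsPGroup 3 (Subgroup.zpowers v) := isPGroup_zpowers_of_pow 3 hv3
  have hnd : ¬ 3 ∣ Nat.card (↥L ⧸ SS L) := by
    rw [← Subgroup.index_eq_card, hidx]; norm_num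
  obtain ⟨c, hc⟩ := hP.nonempty_fixed_point_of_prime_not_dvd_card (↥L ⧸ SS L) hnd
  obtain ⟨g, rfl⟩ := QuotientGroup.mk_surjective c
  refine ⟨g, ?_⟩
  have h1 := hc ⟨v, Subgroup.mem_zpowers v⟩
  have h3 : (QuotientGroup.mk (v * g) : ↥L ⧸ SS L) = QuotientGroup.mk g := h1
  rw [QuotientGroup.eq, mem_SS] at h3
  have e : (v * g)⁻¹ * g = g⁻¹ * v⁻¹ * g⁻¹⁻¹ := by group
  rw [e] at h3
  have h4 : en L (g⁻¹ * v⁻¹ * g⁻¹⁻¹) 1 0 = -mu * en L g⁻¹ 1 1 ^ 2 := by
    have := conj_ll_10 ((g⁻¹ : ↥L) : SL2) (-mu)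
    rw [ll_neg] at this
    rw [hv]
    exact this
  rw [h4, en_inv_11] at h3
  rcases mul_eq_zero.1 h3 with h | h
  · exact absurd (neg_eq_zero.1 h) hmu
  · exact (pow_eq_zero_iff (two_ne_zero)).1 h

end exc

end Cfsg.Agent.Lib.H4.Dickson
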