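import Mathlib
import Cfsg.Agent.Lib.H4.Dickson.Exc

/-!
# The exceptional case: the ten points
-/

set_option autoImplicit false

namespace Cfsg.Agent.Lib.H4.Dickson

open Matrix Cfsg.Agent.Lib.H12

variable {K : Type*} [Field K]

local notation "SL2" => Matrix.SpecialLinearGroup (Fin 2) K
local notation "M2" => Matrix (Fin 2) (Fin 2) K

variable {L : Subgroup (Matrix.SpecialLinearGroup (Fin 2) K)}

theorem en_uu_mul {a : K} (ha : uu a ∈ L) (g : ↥L) :
    en L (⟨uu a, ha⟩ * g) 0 0 = en L g 0 0 + a * en L g 1 0 ∧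
      en L (⟨uu a, ha⟩ * g) 1 0 = en L g 1 0 := by
  constructor
  · rw [en_mul_00, en_uu_mk, en_uu_mk, uu_00, uu_01, one_mul]
  · rw [en_mul_10, en_uu_mk, en_uu_mk, uu_10, uu_11, zero_mul, one_mul, zero_add]

theorem en_ll_mul {b : K} (hb : ll b ∈ L) (g : ↥L) :
    en L (⟨ll b, hb⟩ * g) 0 0 = en L g 0 0 ∧
      en L (⟨ll b, hb⟩ * g) 1 0 = b * en L g 0 0 + en L g 1 0 := by
  constructor
  · rw [en_mul_00]
    show ((ll b : SL2) : M2) 0 0 * _ + ((ll b : SL2) : M2) 0 1 * _ = _
    rw [ll_00, ll_01, one_mul, zero_mul, add_zero]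
  · rw [en_mul_10]
    show ((ll b : SL2) : M2) 1 0 * _ + ((ll b : SL2) : M2) 1 1 * _ = _
    rw [ll_10, ll_11, one_mul]

section exc

variable [CharP K 3] [Finite K]

/-- the algebraic trichotomy -/
theorem tri_alg {m α β : K} (hα : α = 0 ∨ α = 1 ∨ α = -1) (hβ : β = 0 ∨ β = 1 ∨ β = -1)
    (h : (α * m + β) * (m + 1) = m) (hm0 : m ≠ 0) (hm1 : m ≠ 1) :
    m ^ 2 = m + 1 ∨ m ^ 2 = -m + 1 ∨ m ^ 2 = -1 := by
  have h3 : (3 : K) = 0 := three_eq_zero
  rcases hα with rfl | rfl | rfl <;> rcases hβ with rfl | rfl | rfl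
  · exfalso; apply hm0; linear_combination -h
  · exfalso; exact one_ne_zero (α := K) (by linear_combination h)
  · exfalso; apply hm1; linear_combination h + h3 + (m - 1) * h3
  · exfalso; apply hm0
    have : m ^ 2 = 0 := by linear_combination h
    exact (pow_eq_zero_iff (two_ne_zero)).1 this
  · exfalso; apply hm1
    have : (m - 1) ^ 2 = 0 := by linear_combination h - m * h3
    exact sub_eq_zero.1 ((pow_eq_zero_iff (two_ne_zero)).1 this)
  · left; linear_combination h
  · exfalso
    have : m * (m - 1) = 0 := by linear_combination -h - m * h3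
    rcases mul_eq_zero.1 this with h' | h'
    · exact hm0 h'
    · exact hm1 (sub_eq_zero.1 h')
  · right; left; linear_combination -h
  · right; right; linear_combination -h - m * h3

set_option maxHeartbeats 1000000 in
theorem exc_tri (hq : Nat.card (AA L) = 3) (hidx : (SS L).index = 10) {lam mu : K}
    (hlam : lam ≠ 0) (hL : uu lam ∈ L) (hmu : mu ≠ 0) (hM : ll mu ∈ L)
    (hnu : mu⁻¹ ∉ AA L) :
    (lam * mu) ^ 2 = lam * mu + 1 ∨ (lam * mu) ^ 2 = -(lam * mu) + 1 ∨ (lam * mu) ^ 2 = -1 := by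
  have h3 : (3 : K) = 0 := three_eq_zero
  obtain ⟨g, hg00⟩ := exists_en00_zero hidx hmu hM
  have hg10 : en L g 1 0 ≠ 0 := by
    intro h
    have := en_det g
    rw [hg00, h] at this
    simp at this
  have hMn : ll (-mu) ∈ L := (mem_BB L).1 ((BB L).neg_mem hM)
  have hAk : ∀ k : ZMod 3, uu (cc K k * lam) ∈ L := fun k => cc_mul_mem (AA L) hL k
  -- the translates
  obtain ⟨w, hw⟩ : ∃ w : ZMod 3 → ↥L, ∀ e : ZMod 3,
      en L (w e) 0 0 = cc K e * mu⁻¹ * en L (w e) 1 0 ∧ en L (w e) 1 0 ≠ 0 := by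
    have hc : ∀ e : ZMod 3, ∃ x : ↥L, en L x 0 0 = cc K e * mu⁻¹ * en L x 1 0 ∧ en L x 1 0 ≠ 0 := by
      intro e
      rcases cc_cases (K := K) e with h | h | h <;> rw [h]
      · exact ⟨g, by rw [hg00]; ring, hg10⟩
      · refine ⟨⟨ll mu, hM⟩, ?_, hmu⟩
        show (1 : K) = 1 * mu⁻¹ * mu
        field_simp
      · refine ⟨⟨ll (-mu), hMn⟩, ?_, neg_ne_zero.2 hmu⟩
        show (1 : K) = -1 * mu⁻¹ * (-mu)
        field_simp
    choose w hw using hc
    exact ⟨w, hw⟩
  obtain ⟨tau, htau⟩ : ∃ tau : ZMod 3 × ZMod 3 → K,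
      tau = fun x => cc K x.1 * lam + cc K x.2 * mu⁻¹ := ⟨_, rfl⟩
  have htau_inj : Function.Injective tau := by
    rintro ⟨j, e⟩ ⟨j', e'⟩ h
    rw [htau] at h
    simp only at h
    have h1 : cc K (j - j') * lam = cc K (e' - e) * mu⁻¹ := by
      rw [map_sub, map_sub]; linear_combination h
    by_cases hd : e' - e = 0
    · rw [hd, map_zero, zero_mul] at h1
      have h2 : cc K (j - j') = 0 := (mul_eq_zero.1 h1).resolve_right hlam
      have h3' : j - j' = 0 := (map_eq_zero (cc K)).1 h2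
      rw [sub_eq_zero] at h3' hd
      rw [h3', hd]
    · exfalso
      apply hnu
      have hne : cc K (e' - e) ≠ 0 := fun h => hd ((map_eq_zero (cc K)).1 h)
      have : mu⁻¹ = cc K ((j - j') * (e' - e)⁻¹) * lam := by
        rw [map_mul, map_inv₀]
        calc mu⁻¹ = (cc K (e' - e))⁻¹ * (cc K (e' - e) * mu⁻¹) := by field_simp
          _ = (cc K (e' - e))⁻¹ * (cc K (j - j') * lam) := by rw [h1]
          _ = cc K (j - j') * (cc K (e' - e))⁻¹ * lam := by ring
      rw [this]
      exact cc_mul_mem (AA L) hL _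
  obtain ⟨rep, hrep⟩ : ∃ rep : ZMod 3 × ZMod 3 → ↥L,
      rep = fun x => ⟨uu (cc K x.1 * lam), hAk x.1⟩ * w x.2 := ⟨_, rfl⟩
  have hrep00 : ∀ x, en L (rep x) 0 0 = tau x * en L (rep x) 1 0 := by
    intro x
    rw [hrep, htau]
    simp only
    obtain ⟨e1, e2⟩ := en_uu_mul (hAk x.1) (w x.2)
    rw [e1, e2, (hw x.2).1]; ring
  have hrep10 : ∀ x, en L (rep x) 1 0 ≠ 0 := by
    intro x
    rw [hrep]
    simp only
    rw [(en_uu_mul (hAk x.1) (w x.2)).2]
    exact (hw x.2).2
  obtain ⟨f, hf⟩ : ∃ f : Option (ZMod 3 × ZMod 3) → ↥L ⧸ SS L, f = fun o =>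
      match o with
      | none => QuotientGroup.mk (1 : ↥L)
      | some x => QuotientGroup.mk (rep x) := ⟨_, rfl⟩
  have hinj : Function.Injective f := by
    intro o o' h
    rw [hf] at h
    rcases o with _ | x <;> rcases o' with _ | x'
    · rfl
    · exfalso
      simp only at h
      rw [quot_eq_iff, en_one_00, en_one_10] at h
      apply hrep10 x'
      linear_combination h
    · exfalso
      simp only at h
      rw [quot_eq_iff, en_one_00, en_one_10] at h
      apply hrep10 x
      linear_combination -h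
    · simp only at h
      rw [quot_eq_iff, hrep00, hrep00] at h
      congr 1
      apply htau_inj
      have : (tau x - tau x') * (en L (rep x) 1 0 * en L (rep x') 1 0) = 0 := by
        linear_combination h
      rcases mul_eq_zero.1 this with h' | h'
      · exact sub_eq_zero.1 h'
      · exfalso
        rcases mul_eq_zero.1 h' with h'' | h''
        · exact hrep10 x h''
        · exact hrep10 x' h''
  have hcard : Nat.card (↥L ⧸ SS L) ≤ Nat.card (Option (ZMod 3 × ZMod 3)) := by
    rw [Finite.card_option, Nat.card_prod, Nat.card_zmod, ← Subgroup.index_eq_card, hidx]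
  have hsurj := (hinj.bijective_of_nat_card_le hcard).2
  -- the point `ll mu (lam)`
  obtain ⟨h, hh⟩ : ∃ h : ↥L, h = ⟨ll mu, hM⟩ * (⟨uu lam, hL⟩ * g) := ⟨_, rfl⟩
  have hh00 : en L h 0 0 = lam * en L g 1 0 := by
    rw [hh, (en_ll_mul hM _).1, (en_uu_mul hL g).1, hg00, zero_add]
  have hh10 : en L h 1 0 = (lam * mu + 1) * en L g 1 0 := by
    rw [hh, (en_ll_mul hM _).2, (en_uu_mul hL g).1, (en_uu_mul hL g).2, hg00]; ring
  have hm1 : lam * mu ≠ 1 := by
    intro h1
    apply hnu
    have : mu⁻¹ = lam := by field_simp; linear_combination -h1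
    rw [this]; exact hL
  have hm0 : lam * mu ≠ 0 := mul_ne_zero hlam hmu
  have hmn1 : lam * mu + 1 ≠ 0 := by
    intro h1
    apply hnu
    have : mu⁻¹ = -lam := by field_simp; linear_combination h1
    rw [this]; exact (AA L).neg_mem hL
  obtain ⟨o, ho⟩ := hsurj (QuotientGroup.mk h)
  rw [hf] at ho
  rcases o with _ | ⟨j, e⟩
  · exfalso
    simp only at ho
    rw [quot_eq_iff, en_one_00, en_one_10, hh10] at ho
    have : (lam * mu + 1) * en L g 1 0 = 0 := by linear_combination ho
    rcases mul_eq_zero.1 this with h' | h'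
    · exact hmn1 h'
    · exact hg10 h'
  · simp only at ho
    rw [quot_eq_iff, hrep00, hh00, hh10, htau] at ho
    simp only at ho
    have hx := hrep10 (j, e)
    have key : (cc K j * (lam * mu) + cc K e) * (lam * mu + 1) = lam * mu := by
      have h5 : ((cc K j * lam + cc K e * mu⁻¹) * (lam * mu + 1) - lam) *
          (en L (rep (j, e)) 1 0 * en L g 1 0) = 0 := by linear_combination ho
      have h6 : (cc K j * lam + cc K e * mu⁻¹) * (lam * mu + 1) - lam = 0 := by
        rcases mul_eq_zero.1 h5 with h' | h'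
        · exact h'
        · exfalso
          rcases mul_eq_zero.1 h' with h'' | h''
          · exact hx h''
          · exact hg10 h''
      have h7 : cc K e * mu⁻¹ * mu = cc K e := by field_simp
      linear_combination mu * h6 - (lam * mu + 1) * h7
    exact tri_alg (cc_cases j) (cc_cases e) key hm0 hm1

end exc

end Cfsg.Agent.Lib.H4.Dickson
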