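import Mathlib
import Cfsg.Agent.Lib.H4.Dickson.Exc2

/-!
# The exceptional case: `(lam * mu)² = -1`
-/

set_option autoImplicit false

namespace Cfsg.Agent.Lib.H4.Dickson

open Matrix Cfsg.Agent.Lib.H12

variable {K : Type*} [Field K]

local notation "SL2" => Matrix.SpecialLinearGroup (Fin 2) K
local notation "M2" => Matrix (Fin 2) (Fin 2) K

variable {L : Subgroup (Matrix.SpecialLinearGroup (Fin 2) K)}

theorem card_ZL_le [Finite K] : Nat.card (ZL L) ≤ 2 := by
  classical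
  have hinj : Function.Injective (fun w : ↥(ZL L) => decide (((w : ↥L) : SL2) = 1)) := by
    intro w w' h
    have h' : (((w : ↥L) : SL2) = 1) ↔ (((w' : ↥L) : SL2) = 1) := by
      simpa using h
    apply Subtype.ext
    apply Subtype.ext
    rcases (mem_ZL_iff L _).1 w.2 with h1 | h1
    · rw [h1, h'.1 h1]
    · rcases (mem_ZL_iff L _).1 w'.2 with h2 | h2
      · rw [h'.2 h2, h2]
      · rw [h1, h2]
  have := Nat.card_le_card_of_injective _ hinj
  rwa [Nat.card_eq_fintype_card (α := Bool), Fintype.card_bool] at this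

section exc

variable [CharP K 3] [Finite K]

/-- the word excluding `m² = m + 1` -/
theorem word_I {lam mu : K} (hL : uu lam ∈ L) (hM : ll mu ∈ L)
    (hI : (lam * mu) ^ 2 = lam * mu + 1) :
    ∃ W : ↥L, en L W 1 0 = 0 ∧ en L W 0 0 = lam * mu := by
  have h3 : (3 : K) = 0 := three_eq_zero
  have hMn : ll (-mu) ∈ L := (mem_BB L).1 ((BB L).neg_mem hM)
  refine ⟨⟨ll mu * uu lam * ll mu * uu lam * ll (-mu),
    L.mul_mem (L.mul_mem (L.mul_mem (L.mul_mem hM hL) hM) hL) hMn⟩, ?_, ?_⟩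
  · show ((ll mu * uu lam * ll mu * uu lam * ll (-mu) : SL2) : M2) 1 0 = 0
    simp only [mul_apply_00, mul_apply_01, mul_apply_10, mul_apply_11, uu_00, uu_01, uu_10, uu_11,
      ll_00, ll_01, ll_10, ll_11]
    linear_combination (-mu) * hI - (lam * mu ^ 2) * h3
  · show ((ll mu * uu lam * ll mu * uu lam * ll (-mu) : SL2) : M2) 0 0 = lam * mu
    simp only [mul_apply_00, mul_apply_01, mul_apply_10, mul_apply_11, uu_00, uu_01, uu_10, uu_11,
      ll_00, ll_01, ll_10, ll_11]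
    linear_combination -hI - (lam * mu) * h3

theorem not_case_I (hr : Nat.card (RR L) = 2 * Nat.card (ZL L)) {lam mu : K}
    (hL : uu lam ∈ L) (hM : ll mu ∈ L) (hI : (lam * mu) ^ 2 = lam * mu + 1) : False := by
  have h3 : (3 : K) = 0 := three_eq_zero
  have h2 : (2 : K) ≠ 0 := two_ne_zero_of_odd (K := K) 3 (by norm_num)
  obtain ⟨W, hW10, hW00⟩ := word_I hL hM hI
  have hm0 : lam * mu ≠ 0 := by
    intro h
    rw [h] at hI
    simp at hI
  have hmem : Units.mk0 (lam * mu) hm0 ∈ RR L := (mem_RR L).2 ⟨W, hW10, hW00⟩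
  have hz1 : 0 < Nat.card (ZL L) := Nat.card_pos
  have hz2 := card_ZL_le (L := L)
  have hpow : (⟨_, hmem⟩ : ↥(RR L)) ^ Nat.card (RR L) = 1 := pow_card_eq_one'
  have hpow4 : (⟨_, hmem⟩ : ↥(RR L)) ^ 4 = 1 := by
    have hdvd : Nat.card (RR L) ∣ 4 := by
      rw [hr]
      have : Nat.card (ZL L) = 1 ∨ Nat.card (ZL L) = 2 := by omega
      rcases this with h | h <;> rw [h] <;> norm_num
    obtain ⟨k, hk⟩ := hdvd
    rw [hk, pow_mul, hpow, one_pow]
  have h4 : (lam * mu) ^ 4 = 1 := by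
    have := congrArg (fun t : ↥(RR L) => ((t : Kˣ) : K)) hpow4
    simpa using this
  apply h2
  have h5 : (lam * mu) ^ 4 = -1 := by
    have : (lam * mu) ^ 4 = ((lam * mu) ^ 2) ^ 2 := by ring
    rw [this, hI]
    linear_combination hI + (lam * mu + 1) * h3
  rw [h5] at h4
  linear_combination -h4

/-- in the exceptional case, `(lam * mu)² = -1` unless `mu⁻¹ ∈ A` -/
theorem exc_sq (hq : Nat.card (AA L) = 3) (hr : Nat.card (RR L) = 2 * Nat.card (ZL L))
    (hidx : (SS L).index = 10) {lam mu : K}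
    (hlam : lam ≠ 0) (hL : uu lam ∈ L) (hmu : mu ≠ 0) (hM : ll mu ∈ L)
    (hnu : mu⁻¹ ∉ AA L) : (lam * mu) ^ 2 = -1 := by
  rcases exc_tri hq hidx hlam hL hmu hM hnu with h | h | h
  · exact (not_case_I hr hL hM h).elim
  · exfalso
    have hLn : uu (-lam) ∈ L := (mem_AA L).1 ((AA L).neg_mem hL)
    apply not_case_I hr hLn hM
    rw [neg_mul, neg_sq, h]
  · exact h

/-- in the exceptional case with `(lam * mu)² = -1`, the element `-1` lies in `L` -/
theorem neg_one_mem_of_sq {lam mu : K} (hL : uu lam ∈ L) (hM : ll mu ∈ L)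
    (hsq : (lam * mu) ^ 2 = -1) : (-1 : SL2) ∈ L := by
  have h3 : (3 : K) = 0 := three_eq_zero
  have hLn : uu (-lam) ∈ L := (mem_AA L).1 ((AA L).neg_mem hL)
  obtain ⟨X, hX⟩ : ∃ X : SL2, X = uu lam * ll mu * uu (-lam) * ll mu := ⟨_, rfl⟩
  have hXL : X ∈ L := by
    rw [hX]; exact L.mul_mem (L.mul_mem (L.mul_mem hL hM) hLn) hM
  have htr : (X : M2).trace = 0 := by
    rw [hX, trace_eq]
    simp only [mul_apply_00, mul_apply_01, mul_apply_10, mul_apply_11, uu_00, uu_01, uu_10, uu_11,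
      ll_00, ll_01, ll_10, ll_11]
    linear_combination -hsq + h3
  have hXX : X * X = -1 := by
    apply Subtype.ext
    rw [Matrix.SpecialLinearGroup.coe_mul, m2_cayley _ X.det_coe, htr, zero_smul, zero_sub]
    rfl
  rw [← hXX]
  exact L.mul_mem hXL hXL

theorem card_ZL_of_neg_one_mem (hneg : (-1 : SL2) ∈ L) : Nat.card (ZL L) = 2 := by
  have h2 : (2 : K) ≠ 0 := two_ne_zero_of_odd (K := K) 3 (by norm_num)
  apply le_antisymm card_ZL_le
  have hwZ : (⟨-1, hneg⟩ : ↥L) ∈ ZL L := by rw [mem_ZL_iff]; right; rfl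
  have hne : (⟨⟨-1, hneg⟩, hwZ⟩ : ↥(ZL L)) ≠ 1 := by
    intro h
    have h' := congrArg (fun w : ↥(ZL L) => (((w : ↥L) : SL2) : M2) 0 0) h
    simp only [Subgroup.coe_one, Matrix.SpecialLinearGroup.coe_neg,
      Matrix.SpecialLinearGroup.coe_one, Matrix.neg_apply, Matrix.one_apply_eq] at h'
    apply h2
    linear_combination -h'
  have : Nontrivial ↥(ZL L) := ⟨⟨_, _, hne⟩⟩
  exact Finite.one_lt_card

theorem card_L_exc (hq : Nat.card (AA L) = 3) (hr : Nat.card (RR L) = 2 * Nat.card (ZL L))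
    (hidx : (SS L).index = 10) (hneg : (-1 : SL2) ∈ L) : Nat.card L = 120 := by
  rw [← Subgroup.card_mul_index (SS L), hidx, card_SS, hq, hr, card_ZL_of_neg_one_mem hneg]

end exc

end Cfsg.Agent.Lib.H4.Dickson
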