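import Mathlib
import Cfsg.Agent.Lib.H4.Dickson.NonExc2
import Cfsg.Agent.Lib.H4.Dickson.Exc3

/-!
# The generic case of Dickson's `p`-part: `A = B` is a subfield `S` and `SL₂(S) ≤ L` with index `≤ 2`
-/

set_option autoImplicit false

namespace Cfsg.Agent.Lib.H4.Dickson

open Matrix Cfsg.Agent.Lib.H12

variable {K : Type*} [Field K]

local notation "SL2" => Matrix.SpecialLinearGroup (Fin 2) K
local notation "M2" => Matrix (Fin 2) (Fin 2) K

variable {L : Subgroup (Matrix.SpecialLinearGroup (Fin 2) K)}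

section charp

variable (p : ℕ) [Fact p.Prime] [CharP K p]

/-- generic case with `ll 1 ∈ L`: the set `A = {a | uu a ∈ L}` is a subfield, equal to
`B = {b | ll b ∈ L}`. -/
theorem exists_subfield_of_generic [Finite K] (hp : p ≠ 2)
    (hidx : (SS L).index = 1 + Nat.card (AA L)) (h1 : ll 1 ∈ L) :
    ∃ S : Subfield K, (∀ a : K, a ∈ S ↔ uu a ∈ L) ∧ (∀ b : K, b ∈ S ↔ ll b ∈ L) := by
  have one_ne : (1 : K) ≠ 0 := one_ne_zero
  have hA1 : (1 : K) ∈ AA L := by
    have := inv_mem_AA p hp hidx one_ne h1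
    rwa [inv_one] at this
  have hu1 : uu (1 : K) ∈ L := hA1
  have hun1 : uu (-1 : K) ∈ L := (mem_AA L).1 ((AA L).neg_mem hA1)
  have hln1 : ll (-1 : K) ∈ L := (mem_BB L).1 ((BB L).neg_mem h1)
  have hw : nn (1 : K) ∈ L := by
    unfold nn
    rw [inv_one]
    exact L.mul_mem (L.mul_mem h1 hun1) h1
  have hAB : ∀ a : K, a ∈ AA L → a ∈ BB L := by
    intro a ha
    have h2 : nn (1 : K) * uu a * (nn 1)⁻¹ ∈ L := L.mul_mem (L.mul_mem hw ha) (L.inv_mem hw)
    rw [nn_conj_uu one_ne] at h2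
    have h3 : -a ∈ BB L := by
      rw [mem_BB]
      convert h2 using 2
      ring
    have := (BB L).neg_mem h3
    rwa [neg_neg] at this
  have hBA : ∀ b : K, b ∈ BB L → b ∈ AA L := by
    intro b hb
    have h2 : nn (1 : K) * ll b * (nn 1)⁻¹ ∈ L := L.mul_mem (L.mul_mem hw hb) (L.inv_mem hw)
    rw [nn_conj_ll one_ne] at h2
    have h3 : -b ∈ AA L := by
      rw [mem_AA]
      convert h2 using 2
      ring
    have := (AA L).neg_mem h3
    rwa [neg_neg] at this
  have hinv : ∀ a : K, a ∈ AA L → a⁻¹ ∈ AA L := by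
    intro a ha
    by_cases h0 : a = 0
    · rw [h0, _root_.inv_zero]; exact (AA L).zero_mem
    · exact inv_mem_AA p hp hidx h0 (hAB a ha)
  have hsq : ∀ a c : K, a ∈ AA L → c ∈ AA L → a ^ 2 * c ∈ AA L := by
    intro a c ha hc
    by_cases h0 : a = 0
    · rw [h0]; simp [(AA L).zero_mem]
    · have hai : ll (-a⁻¹) ∈ L := (mem_BB L).1 ((BB L).neg_mem (hAB _ (hinv a ha)))
      obtain ⟨D, hD⟩ : ∃ D : SL2, D = uu a * ll (-a⁻¹) * uu a * (uu 1 * ll (-1) * uu 1)⁻¹ :=
        ⟨_, rfl⟩
      have hDL : D ∈ L := by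
        rw [hD]
        exact L.mul_mem (L.mul_mem (L.mul_mem ha hai) ha)
          (L.inv_mem (L.mul_mem (L.mul_mem hu1 hln1) hu1))
      obtain ⟨hD10, hD00⟩ := diag_word h0
      rw [← hD] at hD10 hD00
      have h2 : D * uu c * D⁻¹ ∈ L := L.mul_mem (L.mul_mem hDL hc) (L.inv_mem hDL)
      rw [conj_uu_of_upper hD10, hD00] at h2
      exact h2
  have hmul : ∀ a c : K, a ∈ AA L → c ∈ AA L → a * c ∈ AA L := by
    intro a c ha hc
    apply mem_of_two_mul_mem p hp
    have h2 := hsq (a + 1) c ((AA L).add_mem ha hA1) hc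
    have h3 := hsq a c ha hc
    have h4 := (AA L).sub_mem ((AA L).sub_mem h2 h3) hc
    convert h4 using 1
    ring
  refine ⟨{ carrier := AA L
            mul_mem' := fun {a b} ha hb => hmul a b ha hb
            one_mem' := hA1
            add_mem' := fun {a b} ha hb => (AA L).add_mem ha hb
            zero_mem' := (AA L).zero_mem
            neg_mem' := fun {a} ha => (AA L).neg_mem ha
            inv_mem' := fun a ha => hinv a ha }, fun a => Iff.rfl, fun b => ⟨fun h => hAB b h, fun h => hBA b h⟩⟩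

end charp

/-- the image of `uu` under a base change -/
theorem map_uu {K' : Type*} [Field K'] (f : K' →+* K) (a : K') :
    Matrix.SpecialLinearGroup.map f (uu a) = uu (f a) := by
  apply sl2_ext <;> simp [Matrix.SpecialLinearGroup.map_apply_coe, uu_val]

/-- the image of `ll` under a base change -/
theorem map_ll {K' : Type*} [Field K'] (f : K' →+* K) (a : K') :
    Matrix.SpecialLinearGroup.map f (ll a) = ll (f a) := by
  apply sl2_ext <;> simp [Matrix.SpecialLinearGroup.map_apply_coe, ll_val]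

/-- if `L` contains `uu a`, `ll a` for all `a` in a subfield `S`, it contains the copy of `SL₂(S)`. -/
theorem map_subfield_le (S : Subfield K) (hA : ∀ a ∈ S, uu a ∈ L) (hB : ∀ b ∈ S, ll b ∈ L) :
    (Matrix.SpecialLinearGroup.map (n := Fin 2) (S.subtype : ↥S →+* K)).range ≤ L := by
  have h : L.comap (Matrix.SpecialLinearGroup.map (n := Fin 2) (S.subtype : ↥S →+* K)) = ⊤ := by
    apply eq_top_of_all
    · intro a
      rw [Subgroup.mem_comap, map_uu]
      exact hA _ a.2
    · intro b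
      rw [Subgroup.mem_comap, map_ll]
      exact hB _ b.2
  rintro _ ⟨x, rfl⟩
  have : x ∈ L.comap (Matrix.SpecialLinearGroup.map (n := Fin 2) (S.subtype : ↥S →+* K)) := by
    rw [h]; exact Subgroup.mem_top x
  exact this

theorem card_generic [Finite K] (hidx : (SS L).index = 1 + Nat.card (AA L)) :
    Nat.card L = (1 + Nat.card (AA L)) * (Nat.card (AA L) * Nat.card (RR L)) := by
  rw [← Subgroup.card_mul_index (SS L), hidx, card_SS, mul_comm]

/-- nonzero elements of a subfield `S` whose elementary matrices lie in `L` are diagonal entries -/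
theorem subfield_units_le_RR (S : Subfield K) (hA : ∀ a ∈ S, uu a ∈ L) (hB : ∀ b ∈ S, ll b ∈ L) :
    (Units.map (S.subtype : ↥S →* K)).range ≤ RR L := by
  rintro _ ⟨s, rfl⟩
  have hs0 : ((s : ↥S) : K) ≠ 0 := by
    intro h
    exact s.ne_zero (Subtype.ext h)
  rw [mem_RR]
  obtain ⟨h10, h00⟩ := diag_word hs0
  have hmem : uu ((s : ↥S) : K) * ll (-((s : ↥S) : K)⁻¹) * uu ((s : ↥S) : K) *
      (uu 1 * ll (-1) * uu 1)⁻¹ ∈ L := by
    have e1 := hA _ (s : ↥S).2
    have e2 := hB _ (S.neg_mem (S.inv_mem (s : ↥S).2))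
    have e3 := hA _ S.one_mem
    have e4 := hB _ (S.neg_mem S.one_mem)
    exact L.mul_mem (L.mul_mem (L.mul_mem e1 e2) e1) (L.inv_mem (L.mul_mem (L.mul_mem e3 e4) e3))
  exact ⟨⟨_, hmem⟩, h10, h00⟩

section charp2

variable (p : ℕ) [Fact p.Prime] [CharP K p]

/-- **Dickson, generic `p`-part**: in the generic case with `uu lam, ll 1 ∈ L`, there is a
subfield `S` with `{a | uu a ∈ L} = S = {b | ll b ∈ L}`, the copy of `SL₂(S)` lies in `L`, and
`|L| = (|S|+1)|S|(|S|-1)` or twice that. -/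
theorem generic_structure [Finite K] (hp : p ≠ 2)
    (hidx : (SS L).index = 1 + Nat.card (AA L)) {lam : K} (hlam : lam ≠ 0) (hL : uu lam ∈ L)
    (h1 : ll 1 ∈ L) :
    ∃ S : Subfield K, (∀ a : K, a ∈ S ↔ uu a ∈ L) ∧ (∀ b : K, b ∈ S ↔ ll b ∈ L) ∧
      (Matrix.SpecialLinearGroup.map (n := Fin 2) (S.subtype : ↥S →+* K)).range ≤ L ∧
      (Nat.card L = (1 + Nat.card S) * (Nat.card S * (Nat.card S - 1)) ∨
        Nat.card L = (1 + Nat.card S) * (Nat.card S * (2 * (Nat.card S - 1)))) := by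
  obtain ⟨S, hSA, hSB⟩ := exists_subfield_of_generic p hp hidx h1
  have hA : ∀ a ∈ S, uu a ∈ L := fun a ha => (hSA a).1 ha
  have hB : ∀ b ∈ S, ll b ∈ L := fun b hb => (hSB b).1 hb
  refine ⟨S, hSA, hSB, map_subfield_le S hA hB, ?_⟩
  have hcardA : Nat.card (AA L) = Nat.card S := by
    apply Nat.card_congr
    exact Equiv.subtypeEquivRight (fun a => (hSA a).symm)
  have hle := subfield_units_le_RR S hA hB
  have hdvd := Subgroup.card_dvd_of_le hle
  have hinj : Function.Injective (Units.map (S.subtype : ↥S →* K)) :=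
    Units.map_injective (Subtype.val_injective)
  have hcardT : Nat.card (Units.map (S.subtype : ↥S →* K)).range = Nat.card S - 1 := by
    rw [Nat.card_congr (MonoidHom.ofInjective hinj).symm.toEquiv, Nat.card_units]
  rw [hcardT] at hdvd
  have hRle := card_RR_le p hp hlam hL
  rw [hcardA] at hRle
  have hZ := card_ZL_le (L := L)
  have hRpos : 0 < Nat.card (RR L) := Nat.card_pos
  obtain ⟨k, hk⟩ := hdvd
  have hS1 : 0 < Nat.card S - 1 := by
    rcases Nat.eq_zero_or_pos (Nat.card S - 1) with h | h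
    · rw [h, zero_mul] at hk; omega
    · exact h
  have hk2 : k ≤ 2 := by
    have : (Nat.card S - 1) * k ≤ 2 * (Nat.card S - 1) := by
      rw [← hk]
      exact hRle.trans (Nat.mul_le_mul_right _ hZ)
    rw [mul_comm 2] at this
    exact Nat.le_of_mul_le_mul_left this hS1
  have hk0 : k ≠ 0 := by
    rintro rfl
    rw [mul_zero] at hk; omega
  rw [card_generic hidx, hcardA, hk]
  have : k = 1 ∨ k = 2 := by omega
  rcases this with rfl | rfl
  · left; rw [mul_one]
  · right; rw [mul_comm (Nat.card S - 1) 2]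

end charp2

end Cfsg.Agent.Lib.H4.Dickson
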