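import Mathlib
import Cfsg.Agent.Lib.H4.Dickson.Exc3

/-!
# The subgroup of `SL₂(𝔽₉)` generated by `ll 1` and `uu i` has at most `120` elements
-/

set_option autoImplicit false

namespace Cfsg.Agent.Lib.H4.Dickson.F9

open Matrix

/-- pairs `(a, b)` standing for `a + b i` -/
abbrev P9 := ZMod 3 × ZMod 3

/-- `2 × 2` matrices over the model -/
abbrev T8 := P9 × P9 × P9 × P9

def mulI (x : P9) : P9 := (-x.2, x.1)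

def mulU (t : T8) : T8 := (t.1 + mulI t.2.2.1, t.2.1 + mulI t.2.2.2, t.2.2.1, t.2.2.2)
def mulUi (t : T8) : T8 := (t.1 - mulI t.2.2.1, t.2.1 - mulI t.2.2.2, t.2.2.1, t.2.2.2)
def mulL (t : T8) : T8 := (t.1, t.2.1, t.2.2.1 + t.1, t.2.2.2 + t.2.1)
def mulLi (t : T8) : T8 := (t.1, t.2.1, t.2.2.1 - t.1, t.2.2.2 - t.2.1)

/-- the `120` elements -/
def elems : List T8 := [
  ((1, 0), (0, 0), (0, 0), (1, 0)), ((1, 0), (0, 1), (0, 0), (1, 0)), ((1, 0), (0, 2), (0, 0), (1, 0)),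
  ((1, 0), (0, 0), (1, 0), (1, 0)), ((1, 0), (0, 0), (2, 0), (1, 0)), ((1, 0), (0, 1), (1, 0), (1, 1)),
  ((1, 0), (0, 1), (2, 0), (1, 2)), ((1, 0), (0, 2), (1, 0), (1, 2)), ((1, 0), (0, 2), (2, 0), (1, 1)),
  ((1, 1), (0, 1), (1, 0), (1, 0)), ((1, 2), (0, 2), (1, 0), (1, 0)), ((1, 2), (0, 1), (2, 0), (1, 0)),
  ((1, 1), (0, 2), (2, 0), (1, 0)), ((1, 1), (2, 2), (1, 0), (1, 1)), ((1, 2), (1, 0), (1, 0), (1, 1)),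
  ((1, 2), (1, 2), (2, 0), (1, 2)), ((1, 1), (2, 0), (2, 0), (1, 2)), ((1, 1), (1, 0), (1, 0), (1, 2)),
  ((1, 2), (2, 1), (1, 0), (1, 2)), ((1, 2), (2, 0), (2, 0), (1, 1)), ((1, 1), (1, 1), (2, 0), (1, 1)),
  ((1, 1), (0, 1), (2, 1), (1, 1)), ((1, 1), (0, 1), (0, 2), (1, 2)), ((1, 2), (0, 2), (2, 2), (1, 2)),
  ((1, 2), (0, 2), (0, 1), (1, 1)), ((1, 2), (0, 1), (0, 2), (1, 1)), ((1, 2), (0, 1), (1, 1), (1, 2)),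
  ((1, 1), (0, 2), (0, 1), (1, 2)), ((1, 1), (0, 2), (1, 2), (1, 1)), ((1, 1), (2, 2), (2, 1), (0, 0)),
  ((1, 1), (2, 2), (0, 2), (2, 2)), ((1, 2), (1, 0), (2, 2), (2, 1)), ((1, 2), (1, 0), (0, 1), (0, 1)),
  ((1, 2), (1, 2), (0, 2), (2, 1)), ((1, 2), (1, 2), (1, 1), (0, 0)), ((1, 1), (2, 0), (0, 1), (0, 2)),
  ((1, 1), (2, 0), (1, 2), (2, 2)), ((1, 1), (1, 0), (2, 1), (2, 2)), ((1, 1), (1, 0), (0, 2), (0, 2)),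
  ((1, 2), (2, 1), (2, 2), (0, 0)), ((1, 2), (2, 1), (0, 1), (2, 1)), ((1, 2), (2, 0), (0, 2), (0, 1)),
  ((1, 2), (2, 0), (1, 1), (2, 1)), ((1, 1), (1, 1), (0, 1), (2, 2)), ((1, 1), (1, 1), (1, 2), (0, 0)),
  ((0, 0), (2, 2), (2, 1), (1, 1)), ((2, 2), (1, 0), (2, 1), (1, 1)), ((2, 1), (1, 2), (0, 2), (1, 2)),
  ((0, 1), (2, 0), (0, 2), (1, 2)), ((2, 1), (1, 0), (2, 2), (1, 2)), ((0, 0), (2, 1), (2, 2), (1, 2)),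
  ((0, 2), (2, 0), (0, 1), (1, 1)), ((2, 2), (1, 1), (0, 1), (1, 1)), ((2, 2), (2, 2), (0, 2), (1, 1)),
  ((0, 2), (1, 0), (0, 2), (1, 1)), ((0, 0), (1, 2), (1, 1), (1, 2)), ((2, 1), (2, 0), (1, 1), (1, 2)),
  ((0, 1), (1, 0), (0, 1), (1, 2)), ((2, 1), (2, 1), (0, 1), (1, 2)), ((2, 2), (2, 0), (1, 2), (1, 1)),
  ((0, 0), (1, 1), (1, 2), (1, 1)), ((0, 0), (2, 2), (2, 1), (0, 0)), ((2, 2), (2, 2), (2, 1), (0, 0)),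
  ((2, 1), (0, 1), (0, 2), (2, 2)), ((0, 1), (1, 0), (0, 2), (2, 2)), ((2, 1), (0, 2), (2, 2), (2, 1)),
  ((0, 0), (2, 1), (2, 2), (2, 1)), ((0, 2), (0, 0), (0, 1), (0, 1)), ((2, 2), (2, 0), (0, 1), (0, 1)),
  ((2, 2), (0, 1), (0, 2), (2, 1)), ((0, 2), (2, 0), (0, 2), (2, 1)), ((0, 0), (1, 2), (1, 1), (0, 0)),
  ((2, 1), (1, 2), (1, 1), (0, 0)), ((0, 1), (0, 0), (0, 1), (0, 2)), ((2, 1), (1, 0), (0, 1), (0, 2)),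
  ((2, 2), (0, 2), (1, 2), (2, 2)), ((0, 0), (1, 1), (1, 2), (2, 2)), ((0, 0), (2, 2), (2, 1), (2, 2)),
  ((2, 2), (0, 1), (2, 1), (2, 2)), ((2, 1), (2, 0), (0, 2), (0, 2)), ((0, 1), (0, 0), (0, 2), (0, 2)),
  ((2, 1), (2, 1), (2, 2), (0, 0)), ((0, 0), (2, 1), (2, 2), (0, 0)), ((0, 2), (1, 0), (0, 1), (2, 1)),
  ((2, 2), (0, 2), (0, 1), (2, 1)), ((2, 2), (1, 0), (0, 2), (0, 1)), ((0, 2), (0, 0), (0, 2), (0, 1)),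
  ((0, 0), (1, 2), (1, 1), (2, 1)), ((2, 1), (0, 1), (1, 1), (2, 1)), ((0, 1), (2, 0), (0, 1), (2, 2)),
  ((2, 1), (0, 2), (0, 1), (2, 2)), ((2, 2), (1, 1), (1, 2), (0, 0)), ((0, 0), (1, 1), (1, 2), (0, 0)),
  ((2, 2), (1, 0), (1, 0), (2, 1)), ((2, 1), (1, 2), (2, 0), (2, 1)), ((0, 1), (2, 0), (0, 0), (0, 2)),
  ((2, 1), (1, 0), (1, 0), (2, 2)), ((0, 2), (2, 0), (0, 0), (0, 1)), ((2, 2), (1, 1), (2, 0), (2, 2)),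
  ((2, 2), (2, 2), (1, 0), (2, 2)), ((0, 2), (1, 0), (0, 0), (0, 1)), ((2, 1), (2, 0), (2, 0), (2, 2)),
  ((0, 1), (1, 0), (0, 0), (0, 2)), ((2, 1), (2, 1), (1, 0), (2, 1)), ((2, 2), (2, 0), (2, 0), (2, 1)),
  ((2, 1), (0, 1), (2, 0), (2, 0)), ((2, 1), (0, 2), (1, 0), (2, 0)), ((0, 2), (0, 0), (0, 0), (0, 1)),
  ((2, 2), (0, 1), (1, 0), (2, 0)), ((0, 1), (0, 0), (0, 0), (0, 2)), ((2, 2), (0, 2), (2, 0), (2, 0)),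
  ((2, 0), (0, 2), (1, 0), (2, 1)), ((2, 0), (0, 1), (2, 0), (2, 1)), ((2, 0), (0, 1), (1, 0), (2, 2)),
  ((2, 0), (0, 2), (2, 0), (2, 2)), ((2, 0), (0, 0), (2, 0), (2, 0)), ((2, 0), (0, 0), (1, 0), (2, 0)),
  ((2, 0), (0, 2), (0, 0), (2, 0)), ((2, 0), (0, 1), (0, 0), (2, 0)), ((2, 0), (0, 0), (0, 0), (2, 0))
]

theorem elems_length : elems.length = 120 := by decide

theorem one_mem : ((1, 0), (0, 0), (0, 0), (1, 0)) ∈ elems := by decide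

set_option maxRecDepth 100000 in
theorem mulU_mem : ∀ t ∈ elems, mulU t ∈ elems := by decide

set_option maxRecDepth 100000 in
theorem mulUi_mem : ∀ t ∈ elems, mulUi t ∈ elems := by decide

set_option maxRecDepth 100000 in
theorem mulL_mem : ∀ t ∈ elems, mulL t ∈ elems := by decide

set_option maxRecDepth 100000 in
theorem mulLi_mem : ∀ t ∈ elems, mulLi t ∈ elems := by decide

end Cfsg.Agent.Lib.H4.Dickson.F9
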