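import Mathlib
import Cfsg.Agent.Lib.H4.Dickson.F9

/-!
# Transfer of the `120` element computation to a field with `lam² = -1`
-/

set_option autoImplicit false

namespace Cfsg.Agent.Lib.H4.Dickson.F9

open Matrix Cfsg.Agent.Lib.H4.Dickson

variable {K : Type*} [Field K] [CharP K 3] (lam : K)

local notation "SL2" => Matrix.SpecialLinearGroup (Fin 2) K
local notation "M2" => Matrix (Fin 2) (Fin 2) K

/-- evaluation of the model -/
noncomputable def ev (x : P9) : K := cc K x.1 + cc K x.2 * lam

/-- evaluation of the matrices -/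
noncomputable def mat (t : T8) : M2 := !![ev lam t.1, ev lam t.2.1; ev lam t.2.2.1, ev lam t.2.2.2]

theorem ev_add (x y : P9) : ev lam (x + y) = ev lam x + ev lam y := by
  unfold ev
  rw [Prod.fst_add, Prod.snd_add, map_add, map_add]; ring

theorem ev_sub (x y : P9) : ev lam (x - y) = ev lam x - ev lam y := by
  unfold ev
  rw [Prod.fst_sub, Prod.snd_sub, map_sub, map_sub]; ring

variable {lam}

theorem ev_mulI (hsq : lam ^ 2 = -1) (x : P9) : ev lam (mulI x) = lam * ev lam x := by
  unfold ev mulI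
  simp only [map_neg]
  linear_combination (-cc K x.2) * hsq

theorem mat_mulU (hsq : lam ^ 2 = -1) (t : T8) :
    mat lam (mulU t) = ((uu lam : SL2) : M2) * mat lam t := by
  rw [uu_val]
  unfold mat mulU
  rw [Matrix.mul_fin_two]
  simp only [ev_add, ev_mulI hsq]
  congr 1 <;> ring_nf

theorem mat_mulUi (hsq : lam ^ 2 = -1) (t : T8) :
    mat lam (mulUi t) = ((uu (-lam) : SL2) : M2) * mat lam t := by
  rw [uu_val]
  unfold mat mulUi
  rw [Matrix.mul_fin_two]
  simp only [ev_sub, ev_mulI hsq]
  congr 1 <;> ring_nf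

theorem mat_mulL (t : T8) :
    mat lam (mulL t) = ((ll 1 : SL2) : M2) * mat lam t := by
  rw [ll_val]
  unfold mat mulL
  rw [Matrix.mul_fin_two]
  simp only [ev_add]
  congr 1 <;> ring_nf

theorem mat_mulLi (t : T8) :
    mat lam (mulLi t) = ((ll (-1) : SL2) : M2) * mat lam t := by
  rw [ll_val]
  unfold mat mulLi
  rw [Matrix.mul_fin_two]
  simp only [ev_sub]
  congr 1 <;> ring_nf

theorem mat_one : mat lam ((1, 0), (0, 0), (0, 0), (1, 0)) = (1 : M2) := by
  unfold mat ev
  simp only [map_one, map_zero, zero_mul, add_zero]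
  exact Matrix.one_fin_two.symm

/-- every element of the generated subgroup comes from the list -/
theorem exists_mem_elems (hsq : lam ^ 2 = -1) {g : SL2}
    (hg : g ∈ Subgroup.closure {g : SL2 | (g : M2) = !![1, 0; 1, 1] ∨ (g : M2) = !![1, lam; 0, 1]}) :
    ∃ t ∈ elems, (g : M2) = mat lam t := by
  induction hg using Subgroup.closure_induction_left with
  | one => exact ⟨_, one_mem, by rw [mat_one]; rfl⟩
  | mul_left x hx y _ ih =>
    obtain ⟨t, ht, hy⟩ := ih
    rcases hx with hx | hx
    · have hx' : x = ll 1 := Subtype.ext (hx.trans (ll_val 1).symm)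
      refine ⟨mulL t, mulL_mem t ht, ?_⟩
      rw [mat_mulL, ← hy, hx']; rfl
    · have hx' : x = uu lam := Subtype.ext (hx.trans (uu_val lam).symm)
      refine ⟨mulU t, mulU_mem t ht, ?_⟩
      rw [mat_mulU hsq, ← hy, hx']; rfl
  | inv_mul_cancel x hx y _ ih =>
    obtain ⟨t, ht, hy⟩ := ih
    rcases hx with hx | hx
    · have hx' : x = ll 1 := Subtype.ext (hx.trans (ll_val 1).symm)
      refine ⟨mulLi t, mulLi_mem t ht, ?_⟩
      rw [mat_mulLi, ← hy, hx', ← ll_neg]; rfl
    · have hx' : x = uu lam := Subtype.ext (hx.trans (uu_val lam).symm)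
      refine ⟨mulUi t, mulUi_mem t ht, ?_⟩
      rw [mat_mulUi hsq, ← hy, hx', ← uu_neg]; rfl

theorem card_closure_le (hsq : lam ^ 2 = -1) :
    Nat.card (Subgroup.closure {g : SL2 | (g : M2) = !![1, 0; 1, 1] ∨ (g : M2) = !![1, lam; 0, 1]})
      ≤ 120 := by
  have key : ∀ g : ↥(Subgroup.closure
      {g : SL2 | (g : M2) = !![1, 0; 1, 1] ∨ (g : M2) = !![1, lam; 0, 1]}),
      ∃ i : Fin elems.length, ((g : SL2) : M2) = mat lam (elems.get i) := by
    intro g
    obtain ⟨t, ht, hg⟩ := exists_mem_elems hsq g.2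
    obtain ⟨i, hi⟩ := List.mem_iff_get.1 ht
    exact ⟨i, by rw [hi]; exact hg⟩
  choose f hf using key
  have hinj : Function.Injective f := by
    intro g g' h
    apply Subtype.ext
    apply Subtype.ext
    rw [hf g, hf g', h]
  have := Nat.card_le_card_of_injective f hinj
  rwa [Nat.card_fin, elems_length] at this

end Cfsg.Agent.Lib.H4.Dickson.F9
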