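import Mathlib
import Cfsg.Agent.Lib.H4.Dickson.F9b

/-!
# A field of characteristic three generated by a square root of `-1` has nine elements
-/

set_option autoImplicit false

namespace Cfsg.Agent.Lib.H4.Dickson.F9

open Matrix Cfsg.Agent.Lib.H4.Dickson

variable {K : Type*} [Field K] [CharP K 3] {lam : K}

theorem inv_mem_of_subring [Finite K] (S : Subring K) {a : K} (ha : a ∈ S) : a⁻¹ ∈ S := by
  have := Fintype.ofFinite K
  by_cases h0 : a = 0
  · rw [h0, _root_.inv_zero]; exact S.zero_mem
  · have h1 := FiniteField.pow_card_sub_one_eq_one a h0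
    have hc : 2 ≤ Fintype.card K := Fintype.one_lt_card
    have e : a⁻¹ = a ^ (Fintype.card K - 2) := by
      apply inv_eq_of_mul_eq_one_right
      rw [← pow_succ']
      have : Fintype.card K - 2 + 1 = Fintype.card K - 1 := by omega
      rw [this, h1]
    rw [e]
    exact S.pow_mem ha _

theorem ev_mul (hsq : lam ^ 2 = -1) (x y : P9) :
    ev lam x * ev lam y = ev lam (x.1 * y.1 - x.2 * y.2, x.1 * y.2 + x.2 * y.1) := by
  unfold ev
  simp only [map_sub, map_add, map_mul]
  linear_combination (cc K x.2 * cc K y.2) * hsq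

theorem ev_injective (hsq : lam ^ 2 = -1) : Function.Injective (ev lam) := by
  intro x y h
  have hno : ∀ k : ZMod 3, k ^ 2 + 1 ≠ 0 := by decide
  have h1 : cc K (x.1 - y.1) + cc K (x.2 - y.2) * lam = 0 := by
    unfold ev at h
    rw [map_sub, map_sub]; linear_combination h
  by_cases hd : x.2 - y.2 = 0
  · rw [hd, map_zero, zero_mul, add_zero] at h1
    have h2 : x.1 - y.1 = 0 := (map_eq_zero (cc K)).1 h1
    rw [sub_eq_zero] at h2 hd
    exact Prod.ext h2 hd
  · exfalso
    have hne : cc K (x.2 - y.2) ≠ 0 := fun h => hd ((map_eq_zero (cc K)).1 h)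
    have h2 : lam = cc K (-(x.1 - y.1) * (x.2 - y.2)⁻¹) := by
      rw [map_mul, map_inv₀, map_neg]
      field_simp
      linear_combination h1
    apply hno (-(x.1 - y.1) * (x.2 - y.2)⁻¹)
    apply (map_eq_zero (cc K)).1
    rw [map_add, map_pow, map_one, ← h2, hsq]; ring

theorem card_eq_nine [Fintype K] (hsq : lam ^ 2 = -1)
    (hgen : Subfield.closure ({lam} : Set K) = ⊤) : Fintype.card K = 9 := by
  let S : Subring K :=
    { carrier := Set.range (ev lam)
      mul_mem' := by
        rintro _ _ ⟨x, rfl⟩ ⟨y, rfl⟩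
        exact ⟨_, (ev_mul hsq x y).symm⟩
      one_mem' := ⟨(1, 0), by unfold ev; simp⟩
      add_mem' := by
        rintro _ _ ⟨x, rfl⟩ ⟨y, rfl⟩
        exact ⟨_, ev_add lam x y⟩
      zero_mem' := ⟨(0, 0), by unfold ev; simp⟩
      neg_mem' := by
        rintro _ ⟨x, rfl⟩
        refine ⟨0 - x, ?_⟩
        rw [ev_sub]
        have : ev lam 0 = 0 := by unfold ev; simp
        rw [this, zero_sub] }
  let T : Subfield K :=
    { S with
      inv_mem' := fun a ha => inv_mem_of_subring S ha }
  have hT : Subfield.closure ({lam} : Set K) ≤ T := by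
    rw [Subfield.closure_le]
    intro x hx
    rw [Set.mem_singleton_iff] at hx
    rw [hx]
    exact ⟨(0, 1), by unfold ev; simp⟩
  rw [hgen] at hT
  have hsurj : Function.Surjective (ev lam) := fun a => hT (Subfield.mem_top a)
  have := Fintype.card_of_bijective ⟨ev_injective hsq, hsurj⟩
  rw [← this, Fintype.card_prod, ZMod.card]

/-- if `lam` lies in the prime field and generates the field, everything is in the prime field -/
theorem exists_cc_eq (hgen : Subfield.closure ({lam} : Set K) = ⊤) (k : ZMod 3) (hk : lam = cc K k)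
    (a : K) : ∃ j : ZMod 3, a = cc K j := by
  have hT : Subfield.closure ({lam} : Set K) ≤ (cc K).fieldRange := by
    rw [Subfield.closure_le]
    intro x hx
    rw [Set.mem_singleton_iff] at hx
    rw [hx, hk]
    exact ⟨k, rfl⟩
  rw [hgen] at hT
  obtain ⟨j, hj⟩ := hT (Subfield.mem_top a)
  exact ⟨j, hj.symm⟩

end Cfsg.Agent.Lib.H4.Dickson.F9
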