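import Mathlib
import Cfsg.Agent.Lib.H4.Dickson.Exc3

/-!
# Copies of `SL₂(p)` inside subgroups of `SL₂(K)`: preparations
-/

set_option autoImplicit false

namespace Cfsg.Agent.Lib.H4.Dickson

open Matrix Cfsg.Agent.Lib.H12

variable {K : Type*} [Field K]

local notation "SL2" => Matrix.SpecialLinearGroup (Fin 2) K
local notation "M2" => Matrix (Fin 2) (Fin 2) K

/-- conjugation by `diag(1, mu)`, as a function -/
def twistFun (mu : K) (hmu : mu ≠ 0) (X : SL2) : SL2 :=
  ⟨!![(X : M2) 0 0, (X : M2) 0 1 * mu⁻¹; (X : M2) 1 0 * mu, (X : M2) 1 1], by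
    rw [Matrix.det_fin_two_of]
    have := det_eq X
    field_simp
    linear_combination this⟩

theorem twistFun_00 (mu : K) (hmu : mu ≠ 0) (X : SL2) :
    ((twistFun mu hmu X : SL2) : M2) 0 0 = (X : M2) 0 0 := rfl
theorem twistFun_01 (mu : K) (hmu : mu ≠ 0) (X : SL2) :
    ((twistFun mu hmu X : SL2) : M2) 0 1 = (X : M2) 0 1 * mu⁻¹ := rfl
theorem twistFun_10 (mu : K) (hmu : mu ≠ 0) (X : SL2) :
    ((twistFun mu hmu X : SL2) : M2) 1 0 = (X : M2) 1 0 * mu := rfl
theorem twistFun_11 (mu : K) (hmu : mu ≠ 0) (X : SL2) :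
    ((twistFun mu hmu X : SL2) : M2) 1 1 = (X : M2) 1 1 := rfl

/-- conjugation by `diag(1, mu)` -/
def twist (mu : K) (hmu : mu ≠ 0) : SL2 →* SL2 where
  toFun := twistFun mu hmu
  map_one' := by
    apply sl2_ext <;> simp [twistFun_00, twistFun_01, twistFun_10, twistFun_11]
  map_mul' := fun X Y => by
    apply sl2_ext <;>
      simp only [mul_apply_00, mul_apply_01, mul_apply_10, mul_apply_11, twistFun_00, twistFun_01,
        twistFun_10, twistFun_11]
    · field_simp
    · ring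
    · ring
    · field_simp

theorem twist_apply (mu : K) (hmu : mu ≠ 0) (X : SL2) : twist mu hmu X = twistFun mu hmu X := rfl

theorem twist_uu (mu : K) (hmu : mu ≠ 0) (a : K) : twist mu hmu (uu a) = uu (a * mu⁻¹) := by
  apply sl2_ext
  · rfl
  · rfl
  · show (0 : K) * mu = 0
    rw [zero_mul]
  · rfl

theorem twist_ll (mu : K) (hmu : mu ≠ 0) (b : K) : twist mu hmu (ll b) = ll (b * mu) := by
  apply sl2_ext
  · rfl
  · show (0 : K) * mu⁻¹ = 0
    rw [zero_mul]
  · rfl
  · rfl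

theorem twist_injective (mu : K) (hmu : mu ≠ 0) : Function.Injective (twist mu hmu) := by
  intro X Y h
  have h00 := congrArg (fun Z : SL2 => (Z : M2) 0 0) h
  have h01 := congrArg (fun Z : SL2 => (Z : M2) 0 1) h
  have h10 := congrArg (fun Z : SL2 => (Z : M2) 1 0) h
  have h11 := congrArg (fun Z : SL2 => (Z : M2) 1 1) h
  apply sl2_ext
  · exact h00
  · have : (X : M2) 0 1 * mu⁻¹ = (Y : M2) 0 1 * mu⁻¹ := h01
    exact mul_right_cancel₀ (inv_ne_zero hmu) this
  · have : (X : M2) 1 0 * mu = (Y : M2) 1 0 * mu := h10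
    exact mul_right_cancel₀ hmu this
  · exact h11

/-- a unipotent upper triangular matrix is some `uu a` -/
theorem eq_uu_of_trace {u : SL2} (ht : (u : M2).trace = 2) (h10 : (u : M2) 1 0 = 0) :
    u = uu ((u : M2) 0 1) := by
  have hd := det_eq u
  rw [trace_eq] at ht
  rw [h10, mul_zero, sub_zero] at hd
  have h1 : ((u : M2) 0 0 - 1) ^ 2 = 0 := by
    have : (u : M2) 1 1 = 2 - (u : M2) 0 0 := by linear_combination ht
    rw [this] at hd
    linear_combination -hd
  have h00 : (u : M2) 0 0 = 1 := sub_eq_zero.1 ((pow_eq_zero_iff (two_ne_zero)).1 h1)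
  have h11 : (u : M2) 1 1 = 1 := by rw [h00] at ht; linear_combination ht
  apply sl2_ext
  · rw [uu_00]; exact h00
  · rw [uu_01]
  · rw [uu_10]; exact h10
  · rw [uu_11]; exact h11

/-- a nontrivial unipotent matrix is conjugate to some `uu lam` -/
theorem conj_to_uu {u : SL2} (ht : (u : M2).trace = 2) (h1 : u ≠ 1) :
    ∃ (g : SL2) (lam : K), lam ≠ 0 ∧ g * u * g⁻¹ = uu lam := by
  by_cases h10 : (u : M2) 1 0 = 0
  · refine ⟨1, (u : M2) 0 1, ?_, ?_⟩
    · intro h
      apply h1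
      rw [eq_uu_of_trace ht h10, h, uu_zero]
    · rw [one_mul, inv_one, mul_one]
      exact eq_uu_of_trace ht h10
  · obtain ⟨c, hc⟩ : ∃ c, c = (u : M2) 1 0 := ⟨_, rfl⟩
    have hc0 : c ≠ 0 := by rw [hc]; exact h10
    have hd := det_eq u
    rw [trace_eq] at ht
    obtain ⟨g, hg⟩ : ∃ g : SL2, g = ⟨!![0, -c⁻¹; c, (u : M2) 1 1 - 1], by
        rw [Matrix.det_fin_two_of]
        have : c⁻¹ * c = 1 := inv_mul_cancel₀ hc0
        linear_combination this⟩ := ⟨_, rfl⟩
    have g00 : (g : M2) 0 0 = 0 := by rw [hg]; rfl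
    have g01 : (g : M2) 0 1 = -c⁻¹ := by rw [hg]; rfl
    have g10 : (g : M2) 1 0 = c := by rw [hg]; rfl
    have g11 : (g : M2) 1 1 = (u : M2) 1 1 - 1 := by rw [hg]; rfl
    refine ⟨g, -c⁻¹, neg_ne_zero.2 (inv_ne_zero hc0), ?_⟩
    have ha : (u : M2) 0 0 = 2 - (u : M2) 1 1 := by linear_combination ht
    have hb : (u : M2) 0 1 * c = (2 - (u : M2) 1 1) * (u : M2) 1 1 - 1 := by
      rw [hc]; rw [ha] at hd; linear_combination -hd
    apply sl2_ext <;>
      simp only [mul_apply_00, mul_apply_01, mul_apply_10, mul_apply_11, inv_apply_00,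
        inv_apply_01, inv_apply_10, inv_apply_11, g00, g01, g10, g11, uu_00, uu_01, uu_10, uu_11,
        ← hc, ha]
    · field_simp
      ring
    · field_simp
      ring
    · linear_combination (-c) * hb
    · field_simp
      ring

/-- a unipotent matrix with nonzero lower left entry is conjugate to `ll` by an upper unitriangular
matrix -/
theorem conj_to_ll {u : SL2} (ht : (u : M2).trace = 2) (h10 : (u : M2) 1 0 ≠ 0) :
    uu (((u : M2) 1 1 - 1) / (u : M2) 1 0) * u * (uu (((u : M2) 1 1 - 1) / (u : M2) 1 0))⁻¹ =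
      ll ((u : M2) 1 0) := by
  obtain ⟨c, hc⟩ : ∃ c, c = (u : M2) 1 0 := ⟨_, rfl⟩
  have hc0 : c ≠ 0 := by rw [hc]; exact h10
  have hd := det_eq u
  rw [trace_eq] at ht
  have ha : (u : M2) 0 0 = 2 - (u : M2) 1 1 := by linear_combination ht
  have hb : (u : M2) 0 1 * c = (2 - (u : M2) 1 1) * (u : M2) 1 1 - 1 := by
    rw [hc]; rw [ha] at hd; linear_combination -hd
  rw [← hc]
  apply sl2_ext <;>
    simp only [mul_apply_00, mul_apply_01, mul_apply_10, mul_apply_11, inv_apply_00,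
      inv_apply_01, inv_apply_10, inv_apply_11, uu_00, uu_01, uu_10, uu_11, ll_00, ll_01, ll_10,
      ll_11, ← hc, ha]
  · field_simp
    ring
  · field_simp
    linear_combination hb
  · ring
  · field_simp
    ring

end Cfsg.Agent.Lib.H4.Dickson
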