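import Mathlib
import Cfsg.Agent.Lib.H4.Dickson.SecD1

/-!
# Copies of `SL₂(p)` inside subgroups of `SL₂(K)`
-/

set_option autoImplicit false

namespace Cfsg.Agent.Lib.H4.Dickson

open Matrix Cfsg.Agent.Lib.H12

variable {K : Type*} [Field K]

local notation "SL2" => Matrix.SpecialLinearGroup (Fin 2) K
local notation "M2" => Matrix (Fin 2) (Fin 2) K

section gen

variable (p : ℕ) [Fact p.Prime]

/-- `SL₂(𝔽_p)` is generated by `uu 1` and `ll 1` -/
theorem closure_uu_ll_one :
    Subgroup.closure ({uu (1 : ZMod p), ll (1 : ZMod p)} :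
      Set (Matrix.SpecialLinearGroup (Fin 2) (ZMod p))) = ⊤ := by
  apply eq_top_of_all
  · intro a
    have e : a = a.val • (1 : ZMod p) := by
      rw [nsmul_one, ZMod.natCast_zmod_val]
    rw [e, uu_nsmul]
    have hmem : uu (1 : ZMod p) ∈ Subgroup.closure ({uu (1 : ZMod p), ll (1 : ZMod p)} :
        Set (Matrix.SpecialLinearGroup (Fin 2) (ZMod p))) :=
      Subgroup.subset_closure (Set.mem_insert _ _)
    exact Subgroup.pow_mem _ hmem _
  · intro b
    have hnsmul : ∀ n : ℕ, ll (n • (1 : ZMod p)) = (ll (1 : ZMod p)) ^ n := by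
      intro n
      induction n with
      | zero => simp [ll_zero]
      | succ n ih => rw [succ_nsmul, ll_add, ih, pow_succ]
    have e : b = b.val • (1 : ZMod p) := by
      rw [nsmul_one, ZMod.natCast_zmod_val]
    rw [e, hnsmul]
    have hmem : ll (1 : ZMod p) ∈ Subgroup.closure ({uu (1 : ZMod p), ll (1 : ZMod p)} :
        Set (Matrix.SpecialLinearGroup (Fin 2) (ZMod p))) :=
      Subgroup.subset_closure (Set.mem_insert_of_mem _ (Set.mem_singleton _))
    exact Subgroup.pow_mem _ hmem _

theorem range_le_of_gens {G : Type*} [Group G]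
    (f : Matrix.SpecialLinearGroup (Fin 2) (ZMod p) →* G) (L : Subgroup G)
    (h1 : f (uu 1) ∈ L) (h2 : f (ll 1) ∈ L) : f.range ≤ L := by
  rw [MonoidHom.range_eq_map, ← closure_uu_ll_one p, MonoidHom.map_closure, Subgroup.closure_le]
  rintro _ ⟨x, hx, rfl⟩
  rcases hx with rfl | hx
  · exact h1
  · rw [Set.mem_singleton_iff] at hx
    rw [hx]; exact h2

variable [CharP K p]

/-- the embedding `SL₂(𝔽_p) → SL₂(K)` -/
noncomputable def mapK (K : Type*) [Field K] [CharP K p] :
    Matrix.SpecialLinearGroup (Fin 2) (ZMod p) →* Matrix.SpecialLinearGroup (Fin 2) K :=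
  Matrix.SpecialLinearGroup.map (ZMod.castHom (dvd_refl p) K)

theorem mapK_apply (X : Matrix.SpecialLinearGroup (Fin 2) (ZMod p)) (i j : Fin 2) :
    ((mapK p K X : SL2) : M2) i j = ZMod.castHom (dvd_refl p) K ((X : Matrix (Fin 2) (Fin 2) (ZMod p)) i j) :=
  rfl

theorem mapK_injective : Function.Injective (mapK p K) := by
  intro X Y h
  apply Subtype.ext
  ext i j
  have := congrArg (fun Z : SL2 => (Z : M2) i j) h
  simp only [mapK_apply] at this
  exact (ZMod.castHom (dvd_refl p) K).injective this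

theorem mapK_uu_one : mapK p K (uu 1) = uu 1 := by
  apply sl2_ext <;> rw [mapK_apply] <;> simp

theorem mapK_ll_one : mapK p K (ll 1) = ll 1 := by
  apply sl2_ext <;> rw [mapK_apply] <;> simp

end gen

/-- the key identity in characteristic three -/
theorem sl23_word [CharP K 3] {m : K} (hsq : m ^ 2 = -1) :
    ll (m - 1) * uu 1 * (ll (m - 1))⁻¹ = uu m * ll 1 * uu m * ll (-1) * uu (-m) := by
  have h3 : (3 : K) = 0 := three_eq_zero
  apply sl2_ext <;>
    simp only [mul_apply_00, mul_apply_01, mul_apply_10, mul_apply_11, inv_apply_00,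
      inv_apply_01, inv_apply_10, inv_apply_11, uu_00, uu_01, uu_10, uu_11, ll_00, ll_01, ll_10,
      ll_11]
  · linear_combination hsq
  · linear_combination (-2 - m) * hsq + h3
  · linear_combination -hsq + m * h3
  · linear_combination -hsq

section main

variable (p : ℕ) [Fact p.Prime] [CharP K p] [Finite K]

/-- a subgroup of `SL₂(K)` containing `uu lam` and `ll mu` contains a copy of `SL₂(p)` -/
theorem exists_sl2p_le (hp : p ≠ 2) {L : Subgroup SL2} {lam mu : K} (hlam : lam ≠ 0)
    (hL : uu lam ∈ L) (hmu : mu ≠ 0) (hM : ll mu ∈ L) :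
    ∃ f : Matrix.SpecialLinearGroup (Fin 2) (ZMod p) →* SL2, Function.Injective f ∧ f.range ≤ L := by
  -- the easy case
  have easy : uu mu⁻¹ ∈ L → ∃ f : Matrix.SpecialLinearGroup (Fin 2) (ZMod p) →* SL2,
      Function.Injective f ∧ f.range ≤ L := by
    intro hinv
    refine ⟨(twist mu hmu).comp (mapK p K), (twist_injective mu hmu).comp (mapK_injective p), ?_⟩
    apply range_le_of_gens
    · rw [MonoidHom.comp_apply, mapK_uu_one, twist_uu, one_mul]; exact hinv
    · rw [MonoidHom.comp_apply, mapK_ll_one, twist_ll, one_mul]; exact hM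
  rcases dichotomy p hp hlam hL hmu hM with hidx | ⟨hq, hr, hidx⟩
  · exact easy (inv_mem_AA p hp hidx hmu hM)
  · by_cases hnu : mu⁻¹ ∈ AA L
    · exact easy hnu
    · obtain ⟨k, hk⟩ := card_AA_pow (L := L) p
      have hp3 : p = 3 := by
        have hpp : p.Prime := Fact.out
        have hk0 : k ≠ 0 := by
          rintro rfl
          rw [hq] at hk; simp at hk
        have : p ∣ 3 := by rw [← hq, hk]; exact dvd_pow_self p hk0
        exact (Nat.prime_dvd_prime_iff_eq hpp Nat.prime_three).1 this
      subst hp3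
      have hsq := exc_sq hq hr hidx hlam hL hmu hM hnu
      have hLn : uu (-lam) ∈ L := (mem_AA L).1 ((AA L).neg_mem hL)
      have hMn : ll (-mu) ∈ L := (mem_BB L).1 ((BB L).neg_mem hM)
      refine ⟨(twist mu hmu).comp
        ((MulAut.conj (ll (lam * mu - 1))).toMonoidHom.comp (mapK 3 K)),
        (twist_injective mu hmu).comp ((MulAut.conj (ll (lam * mu - 1))).injective.comp
          (mapK_injective 3)), ?_⟩
      apply range_le_of_gens
      · rw [MonoidHom.comp_apply, MonoidHom.comp_apply, mapK_uu_one]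
        show twist mu hmu (ll (lam * mu - 1) * uu 1 * (ll (lam * mu - 1))⁻¹) ∈ L
        rw [sl23_word hsq]
        simp only [map_mul, twist_uu, twist_ll]
        have e1 : lam * mu * mu⁻¹ = lam := by field_simp
        have e2 : -(lam * mu) * mu⁻¹ = -lam := by field_simp
        rw [e1, e2, one_mul, neg_one_mul]
        exact L.mul_mem (L.mul_mem (L.mul_mem (L.mul_mem hL hM) hL) hMn) hLn
      · rw [MonoidHom.comp_apply, MonoidHom.comp_apply, mapK_ll_one]
        show twist mu hmu (ll (lam * mu - 1) * ll 1 * (ll (lam * mu - 1))⁻¹) ∈ L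
        have e : ll (lam * mu - 1) * ll 1 * (ll (lam * mu - 1))⁻¹ = ll (1 : K) := by
          rw [← ll_neg, ← ll_add, ← ll_add]
          congr 1
          ring
        rw [e, twist_ll, one_mul]
        exact hM

end main

end Cfsg.Agent.Lib.H4.Dickson
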