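import Mathlib
import Cfsg.Agent.Lib.H4.Dickson.SecD2

/-!
# A non-`p`-group generated by two unipotent elements of `SL₂(K)` contains `SL₂(p)`
-/

set_option autoImplicit false

namespace Cfsg.Agent.Lib.H4.Dickson

open Matrix Cfsg.Agent.Lib.H12

variable {K : Type*} [Field K]

local notation "SL2" => Matrix.SpecialLinearGroup (Fin 2) K
local notation "M2" => Matrix (Fin 2) (Fin 2) K

/-- the group of upper unitriangular matrices -/
def UUsub (K : Type*) [Field K] : Subgroup (Matrix.SpecialLinearGroup (Fin 2) K) where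
  carrier := {g | ∃ a : K, g = uu a}
  one_mem' := ⟨0, uu_zero.symm⟩
  mul_mem' := by
    rintro _ _ ⟨a, rfl⟩ ⟨b, rfl⟩
    exact ⟨a + b, (uu_add a b).symm⟩
  inv_mem' := by
    rintro _ ⟨a, rfl⟩
    exact ⟨-a, (uu_neg a).symm⟩

section main

variable (p : ℕ) [Fact p.Prime] [CharP K p]

theorem uu_pow_char (a : K) : (uu a : SL2) ^ p = 1 := by
  rw [← uu_nsmul, nsmul_eq_mul, CharP.cast_eq_zero K p, zero_mul, uu_zero]

theorem isPGroup_of_le_UUsub {L : Subgroup SL2} (h : L ≤ UUsub K) : IsPGroup p L := by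
  rintro ⟨g, hg⟩
  obtain ⟨a, rfl⟩ := h hg
  refine ⟨1, ?_⟩
  apply Subtype.ext
  show (uu a : SL2) ^ (p ^ 1) = 1
  rw [pow_one, uu_pow_char]

variable [Finite K]

theorem exists_sl2p_of_unip (hp : p ≠ 2) {u₁ u₂ : SL2} (h1 : (u₁ : M2).trace = 2)
    (h2 : (u₂ : M2).trace = 2)
    (hnp : ¬ IsPGroup p (Subgroup.closure ({u₁, u₂} : Set SL2))) :
    ∃ f : Matrix.SpecialLinearGroup (Fin 2) (ZMod p) →* SL2,
      Function.Injective f ∧ f.range ≤ Subgroup.closure ({u₁, u₂} : Set SL2) := by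
  have hK2 := two_ne_zero_of_odd (K := K) p hp
  have hu₂p : u₂ ^ p = 1 := (Cfsg.Agent.Lib.H8.SL2Odd.pow_char_eq_one_iff_trace p hK2 _).2 h2
  -- `u₁ ≠ 1`
  have hu₁ : u₁ ≠ 1 := by
    rintro rfl
    apply hnp
    apply (isPGroup_zpowers_of_pow p hu₂p).to_le
    rw [Subgroup.closure_le]
    rintro x (rfl | hx)
    · exact Subgroup.one_mem _
    · rw [Set.mem_singleton_iff] at hx
      rw [hx]; exact Subgroup.mem_zpowers _
  obtain ⟨g, lam, hlam, hg⟩ := conj_to_uu h1 hu₁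
  have h2' : ((g * u₂ * g⁻¹ : SL2) : M2).trace = 2 := by rw [sl2_trace_conj]; exact h2
  -- a general transport statement
  have transport : ∀ g₀ : SL2, ∀ f₀ : Matrix.SpecialLinearGroup (Fin 2) (ZMod p) →* SL2,
      Function.Injective f₀ →
      f₀.range ≤ (Subgroup.closure ({u₁, u₂} : Set SL2)).map (MulAut.conj g₀).toMonoidHom →
      ∃ f : Matrix.SpecialLinearGroup (Fin 2) (ZMod p) →* SL2,
        Function.Injective f ∧ f.range ≤ Subgroup.closure ({u₁, u₂} : Set SL2) := by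
    intro g₀ f₀ hinj hle
    refine ⟨(MulAut.conj g₀⁻¹).toMonoidHom.comp f₀, (MulAut.conj g₀⁻¹).injective.comp hinj, ?_⟩
    rintro _ ⟨x, rfl⟩
    obtain ⟨l, hl, hlx⟩ := hle ⟨x, rfl⟩
    have : ((MulAut.conj g₀⁻¹).toMonoidHom.comp f₀) x = l := by
      rw [MonoidHom.comp_apply, ← hlx]
      show g₀⁻¹ * (g₀ * l * g₀⁻¹) * g₀⁻¹⁻¹ = l
      group
    rw [this]; exact hl
  by_cases hc : ((g * u₂ * g⁻¹ : SL2) : M2) 1 0 = 0
  · -- then the group is a `p`-group
    exfalso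
    apply hnp
    have hu₂' := eq_uu_of_trace h2' hc
    have hL' : (Subgroup.closure ({u₁, u₂} : Set SL2)).map (MulAut.conj g).toMonoidHom ≤
        UUsub K := by
      rw [MonoidHom.map_closure, Subgroup.closure_le]
      rintro _ ⟨x, hx, rfl⟩
      rcases hx with rfl | hx
      · exact ⟨lam, hg⟩
      · rw [Set.mem_singleton_iff] at hx
        rw [hx]
        exact ⟨_, hu₂'⟩
    rintro ⟨x, hx⟩
    refine ⟨1, ?_⟩
    apply Subtype.ext
    show x ^ (p ^ 1) = 1
    rw [pow_one]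
    obtain ⟨a, ha⟩ := hL' ⟨x, hx, rfl⟩
    have h3 : (g * x * g⁻¹) ^ p = 1 := by
      have : (MulAut.conj g).toMonoidHom x = g * x * g⁻¹ := rfl
      rw [← this, ha, uu_pow_char]
    rw [conj_pow] at h3
    have : x ^ p = g⁻¹ * (g * x ^ p * g⁻¹) * g := by group
    rw [this, h3]; group
  · -- conjugate further to get `ll`
    obtain ⟨t, ht⟩ : ∃ t : K, t = (((g * u₂ * g⁻¹ : SL2) : M2) 1 1 - 1) /
        ((g * u₂ * g⁻¹ : SL2) : M2) 1 0 := ⟨_, rfl⟩
    have hll := conj_to_ll h2' hc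
    rw [← ht] at hll
    obtain ⟨f₀, hinj, hle⟩ := exists_sl2p_le p hp
      (L := (Subgroup.closure ({u₁, u₂} : Set SL2)).map (MulAut.conj (uu t * g)).toMonoidHom)
      hlam (mu := ((g * u₂ * g⁻¹ : SL2) : M2) 1 0)
      (by
        refine ⟨u₁, Subgroup.subset_closure (Set.mem_insert _ _), ?_⟩
        show uu t * g * u₁ * (uu t * g)⁻¹ = uu lam
        have : uu t * g * u₁ * (uu t * g)⁻¹ = uu t * (g * u₁ * g⁻¹) * (uu t)⁻¹ := by group
        rw [this, hg, ← uu_neg, ← uu_add, ← uu_add]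
        congr 1
        ring) hc
      (by
        refine ⟨u₂, Subgroup.subset_closure (Set.mem_insert_of_mem _ (Set.mem_singleton _)), ?_⟩
        show uu t * g * u₂ * (uu t * g)⁻¹ = _
        have : uu t * g * u₂ * (uu t * g)⁻¹ = uu t * (g * u₂ * g⁻¹) * (uu t)⁻¹ := by group
        rw [this, hll])
    exact transport _ f₀ hinj hle

end main

end Cfsg.Agent.Lib.H4.Dickson
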